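import Groth.Agent.L23.Adeq.Basic
import Mathlib.RingTheory.Flat.FaithfullyFlat.Basic
import Mathlib.RingTheory.Flat.FaithfullyFlat.Algebra

/-!
# Descent along a faithfully flat algebra for adequate functors
-/

universe u

open CategoryTheory Opposite TensorProduct

set_option backward.isDefEq.respectTransparency.types false
set_option linter.style.haveILetI false

namespace Groth.L23.Adq

open _root_.Adeq

noncomputable section

variable (R : Type u) [CommRing R] (B : Type u) [CommRing B] [Algebra R B]

/-- The difference of the two coprojections. -/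
def coDiff : B →ₗ[R] B ⊗[R] B :=
  (Algebra.TensorProduct.includeLeft (R := R) (S := R) (A := B) (B := B)).toLinearMap -
    (Algebra.TensorProduct.includeRight (R := R) (A := B) (B := B)).toLinearMap

theorem coDiff_apply (c : B) : coDiff R B c = c ⊗ₜ[R] (1 : B) - (1 : B) ⊗ₜ[R] c := rfl

theorem amitsur_exact [Module.FaithfullyFlat R B] (M : Type (u + 1)) [AddCommGroup M] [Module R M] :
    Function.Exact (TensorProduct.mk R B M 1) ((coDiff R B).rTensor M) := by
  rw [← Module.FaithfullyFlat.lTensor_exact_iff_exact R B]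
  let μ : B ⊗[R] ((B ⊗[R] B) ⊗[R] M) →ₗ[R] B ⊗[R] (B ⊗[R] M) :=
    (LinearMap.rTensor (B ⊗[R] M) (LinearMap.mul' R B)).comp
      ((TensorProduct.assoc R B B (B ⊗[R] M)).symm.toLinearMap.comp
        ((TensorProduct.assoc R B B M).toLinearMap.lTensor B))
  let κ : B ⊗[R] (B ⊗[R] M) →ₗ[R] B ⊗[R] M :=
    (LinearMap.rTensor M (LinearMap.mul' R B)).comp (TensorProduct.assoc R B B M).symm.toLinearMap
  have key : ∀ z, μ (((coDiff R B).rTensor M).lTensor B z) = (TensorProduct.mk R B M 1).lTensor B (κ z) - z := by
    intro z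
    induction z using TensorProduct.induction_on with
    | zero => simp
    | tmul b y =>
      induction y using TensorProduct.induction_on with
      | zero => simp
      | tmul c m =>
        simp [μ, κ, coDiff_apply, TensorProduct.sub_tmul, TensorProduct.tmul_sub]
      | add y y' hy hy' =>
        rw [TensorProduct.tmul_add, map_add, map_add, map_add, map_add, hy, hy']
        abel
    | add y y' hy hy' =>
      rw [map_add, map_add, map_add, map_add, hy, hy']
      abel
  intro z
  refine ⟨fun hz => ⟨κ z, ?_⟩, ?_⟩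
  · have h := key z
    rw [hz, map_zero] at h
    exact sub_eq_zero.1 h.symm
  · rintro ⟨w, rfl⟩
    rw [← LinearMap.lTensor_comp_apply]
    have h0 : ((coDiff R B).rTensor M).comp (TensorProduct.mk R B M 1) = 0 := LinearMap.ext fun m => by
      show (coDiff R B 1) ⊗ₜ[R] m = 0
      rw [coDiff_apply, sub_self, TensorProduct.zero_tmul]
    rw [h0, LinearMap.lTensor_zero, LinearMap.zero_apply]

variable {R B}

/-- The structure map. -/
abbrev toB : algOf R R ⟶ algOf R B := CommAlgCat.ofHom (Algebra.ofId R B)

/-- The first coprojection. -/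
abbrev coL : algOf R B ⟶ algOf R (B ⊗[R] B) :=
  CommAlgCat.ofHom (Algebra.TensorProduct.includeLeft : B →ₐ[R] B ⊗[R] B)

/-- The second coprojection. -/
abbrev coR : algOf R B ⟶ algOf R (B ⊗[R] B) :=
  CommAlgCat.ofHom (Algebra.TensorProduct.includeRight : B →ₐ[R] B ⊗[R] B)

theorem ut_toB (M : ModuleCat.{u + 1} R) (z : UV M (algOf R R)) :
    ut M (toB (B := B)) z = TensorProduct.mk R B M 1 (TensorProduct.lid R M z) := by
  induction z using TensorProduct.induction_on with
  | zero => simp
  | tmul r m =>
    show (algebraMap R B r) ⊗ₜ[R] m = (1 : B) ⊗ₜ[R] (r • m)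
    rw [Algebra.algebraMap_eq_smul_one, TensorProduct.smul_tmul]
  | add x y hx hy => rw [map_add, map_add, map_add, hx, hy]

theorem ut_coDiff (M : ModuleCat.{u + 1} R) (z : UV M (algOf R B)) :
    (coDiff R B).rTensor M z = ut M coL z - ut M coR z := by
  rw [coDiff, LinearMap.rTensor_sub]
  rfl

theorem adequate_descent [Module.FaithfullyFlat R B] {F : MVF R} (e : Emb F) :
    Function.Injective (tr F (toB (B := B))) ∧
      ∀ y : F.obj (pt (algOf R B)), tr F coL y = tr F coR y → ∃ x, tr F toB x = y := by
  have hinj : ∀ M : ModuleCat.{u + 1} R, Function.Injective (ut M (toB (B := B))) := fun M z z' h => by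
    rw [ut_toB, ut_toB] at h
    exact (TensorProduct.lid R M).injective (Module.FaithfullyFlat.tensorProduct_mk_injective _ h)
  refine ⟨fun x x' h => e.inj _ (hinj e.M ?_), fun y hy => ?_⟩
  · rw [← apo_tr, ← apo_tr, h]
  · have h0 : (coDiff R B).rTensor e.M (apo e.j (algOf R B) y) = 0 := by
      rw [ut_coDiff, ← apo_tr, ← apo_tr, hy, sub_self]
    obtain ⟨m, hm⟩ := (amitsur_exact R B e.M _).1 h0
    obtain ⟨x, hx⟩ := e.exists_of_mem (algOf R R) ((TensorProduct.lid R e.M).symm m) (by
      apply hinj e.N
      rw [map_zero]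
      refine (?_ : _ = um e.ψ (algOf R B) (apo e.j (algOf R B) y)).trans (e.mem _ y)
      rw [← hm]
      show ut e.N toB (um e.ψ (algOf R R) ((1 : R) ⊗ₜ[R] m)) = _
      simp)
    refine ⟨x, e.inj _ ?_⟩
    rw [apo_tr, hx, ut_toB, LinearEquiv.apply_symm_apply, hm]

end

end Groth.L23.Adq
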