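import Groth.Prelude.Def_Adeq
import Mathlib.LinearAlgebra.TensorProduct.RightExactness
import Mathlib.Algebra.Category.ModuleCat.Kernels
import Mathlib.Algebra.Category.ModuleCat.Presheaf.Colimits
import Mathlib.Algebra.Category.ModuleCat.Presheaf.Limits
import Mathlib.Algebra.Homology.ShortComplex.ModuleCat
import Mathlib.LinearAlgebra.TensorProduct.Prod

/-!
# Module-valued functors: elementwise descriptions
-/

universe u

open CategoryTheory Limits Opposite TensorProduct

set_option backward.isDefEq.respectTransparency.types false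
set_option linter.style.haveILetI false

namespace Groth.L23.Adq

open _root_.Adeq

noncomputable section

variable {A : Type u} [CommRing A]

section Eval

variable {F G H : MVF A}

/-- The component of a morphism of module-valued functors, as a linear map. -/
abbrev ap (φ : F ⟶ G) (B : Alg A) : F.obj (pt B) →ₗ[B] G.obj (pt B) := (φ.app (pt B)).hom

/-- The transition map of a module-valued functor, as an additive map. -/
def tr (F : MVF A) {B B' : Alg A} (f : B ⟶ B') : F.obj (pt B) →+ F.obj (pt B') where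
  toFun x := F.map (ptHom f) x
  map_zero' := map_zero _
  map_add' := map_add _

theorem tr_smul (F : MVF A) {B B' : Alg A} (f : B ⟶ B') (b : B) (x : F.obj (pt B)) :
    tr F f (b • x) = f.hom b • tr F f x :=
  PresheafOfModules.map_smul F (ptHom f) b x

theorem tr_comp (F : MVF A) {B B' B'' : Alg A} (f : B ⟶ B') (g : B' ⟶ B'') (x : F.obj (pt B)) :
    tr F (f ≫ g) x = tr F g (tr F f x) :=
  ConcreteCategory.congr_hom (F.presheaf.map_comp (ptHom f) (ptHom g)) x

theorem tr_id (F : MVF A) (B : Alg A) (x : F.obj (pt B)) : tr F (𝟙 B) x = x :=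
  ConcreteCategory.congr_hom (F.presheaf.map_id (pt B)) x

theorem ap_tr (φ : F ⟶ G) {B B' : Alg A} (f : B ⟶ B') (x : F.obj (pt B)) :
    ap φ B' (tr F f x) = tr G f (ap φ B x) :=
  PresheafOfModules.naturality_apply φ (ptHom f) x

theorem ap_comp (φ : F ⟶ G) (θ : G ⟶ H) (B : Alg A) (x : F.obj (pt B)) :
    ap (φ ≫ θ) B x = ap θ B (ap φ B x) := rfl

theorem hom_ext' {φ θ : F ⟶ G} (h : ∀ (B : Alg A) (x : F.obj (pt B)), ap φ B x = ap θ B x) : φ = θ := by
  ext ⟨⟨B⟩⟩ x
  exact h B x

theorem mono_iff' (φ : F ⟶ G) : Mono φ ↔ ∀ B, Function.Injective (ap φ B) :=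
  (PresheafOfModules.mono_iff_surjective φ).trans ⟨fun h B => @h (pt B), fun h ⟨⟨B⟩⟩ => h B⟩

theorem epi_iff' (φ : F ⟶ G) : Epi φ ↔ ∀ B, Function.Surjective (ap φ B) :=
  (PresheafOfModules.epi_iff_surjective φ).trans ⟨fun h B => @h (pt B), fun h ⟨⟨B⟩⟩ => h B⟩

theorem isIso_of_bijective (φ : F ⟶ G) (h : ∀ B, Function.Bijective (ap φ B)) : IsIso φ := by
  haveI := (mono_iff' φ).2 fun B => (h B).1
  haveI := (epi_iff' φ).2 fun B => (h B).2
  exact isIso_of_mono_of_epi φ

theorem injective_ap_kernel_ι (φ : F ⟶ G) (B : Alg A) : Function.Injective (ap (kernel.ι φ) B) :=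
  (mono_iff' _).1 inferInstance B

theorem ap_kernel_ι (φ : F ⟶ G) (B : Alg A) (y) : ap φ B (ap (kernel.ι φ) B y) = 0 :=
  congrArg (fun (k : kernel φ ⟶ G) => ap k B y) (kernel.condition φ)

instance evalAdditive (B : Alg A) : (PresheafOfModules.evaluation.{u + 1} (ringOf A) (pt B)).Additive :=
  PresheafOfModules.instAdditiveModuleCatCarrierObjOppositeRingCatEvaluation _ _

instance evalPFL (B : Alg A) : PreservesFiniteLimits (PresheafOfModules.evaluation.{u + 1} (ringOf A) (pt B)) :=
  PresheafOfModules.evaluation_preservesFiniteLimits _ _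

instance evalPFC (B : Alg A) : PreservesFiniteColimits (PresheafOfModules.evaluation.{u + 1} (ringOf A) (pt B)) :=
  PresheafOfModules.Finite.evaluation_preservesFiniteColimits _ _

theorem exists_kernel (φ : F ⟶ G) (B : Alg A) (x : F.obj (pt B)) (hx : ap φ B x = 0) :
    ∃ y, ap (kernel.ι φ) B y = x := by
  have hS := (ShortComplex.exact_of_f_is_kernel (ShortComplex.mk (kernel.ι φ) φ (kernel.condition φ))
    (kernelIsKernel φ)).map (PresheafOfModules.evaluation.{u + 1} (ringOf A) (pt B))
  rw [ShortComplex.moduleCat_exact_iff] at hS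
  exact hS x hx

theorem surjective_ap_cokernel_π (φ : F ⟶ G) (B : Alg A) : Function.Surjective (ap (cokernel.π φ) B) :=
  (epi_iff' _).1 inferInstance B

theorem ap_cokernel_π_eq_zero (φ : F ⟶ G) (B : Alg A) (y : G.obj (pt B)) :
    ap (cokernel.π φ) B y = 0 ↔ ∃ x, ap φ B x = y := by
  refine ⟨fun h => ?_, fun ⟨x, hx⟩ => hx ▸ congrArg (fun (k : F ⟶ cokernel φ) => ap k B x) (cokernel.condition φ)⟩
  have hS := (ShortComplex.exact_of_g_is_cokernel (ShortComplex.mk φ (cokernel.π φ) (cokernel.condition φ))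
    (cokernelIsCokernel φ)).map (PresheafOfModules.evaluation.{u + 1} (ringOf A) (pt B))
  rw [ShortComplex.moduleCat_exact_iff] at hS
  exact hS y h

theorem exists_comp_of_forall (θ : F ⟶ H) [Epi θ] (φ : F ⟶ G)
    (h : ∀ B x, ap θ B x = 0 → ap φ B x = 0) : ∃ k : H ⟶ G, θ ≫ k = φ :=
  ⟨Abelian.epiDesc θ φ (hom_ext' fun B y => h B _ (ap_kernel_ι θ B y)), Abelian.comp_epiDesc _ _ _⟩

theorem exists_factor_of_forall (j : F ⟶ G) [Mono j] (φ : H ⟶ G)
    (h : ∀ B x, ∃ y, ap j B y = ap φ B x) : ∃ k : H ⟶ F, k ≫ j = φ :=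
  ⟨Abelian.monoLift j φ (hom_ext' fun B x => by
    obtain ⟨y, hy⟩ := h B x
    rw [ap_comp, ← hy]
    exact congrArg (fun (k : F ⟶ cokernel j) => ap k B y) (cokernel.condition j)), Abelian.monoLift_comp _ _ _⟩

end Eval

section Underline

variable {M N P : ModuleCat.{u + 1} A}

/-- Elements of `underline M` at `B`. -/
abbrev UV (M : ModuleCat.{u + 1} A) (B : Alg A) : Type (u + 1) := B ⊗[A] M

/-- The component of `underline g`. -/
abbrev um (g : M ⟶ N) (B : Alg A) : UV M B →ₗ[B] UV N B := g.hom.baseChange B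

/-- The transition map of `underline M`. -/
abbrev ut (M : ModuleCat.{u + 1} A) {B B' : Alg A} (f : B ⟶ B') : UV M B →ₗ[A] UV M B' :=
  f.hom.toLinearMap.rTensor M

theorem ap_underline_map (g : M ⟶ N) (B : Alg A) (x : UV M B) :
    ap ((underline A).map g) B x = um g B x := rfl

theorem tr_underline (M : ModuleCat.{u + 1} A) {B B' : Alg A} (f : B ⟶ B') (x : UV M B) :
    tr ((underline A).obj M) f x = ut M f x := rfl

theorem um_comp (g : M ⟶ N) (h : N ⟶ P) (B : Alg A) (x : UV M B) : um (g ≫ h) B x = um h B (um g B x) := by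
  rw [um, ModuleCat.hom_comp, LinearMap.baseChange_comp]
  rfl

theorem um_exact (g : M ⟶ N) (h : N ⟶ P) (he : Function.Exact g.hom h.hom) (hs : Function.Surjective h.hom)
    (B : Alg A) : Function.Exact (um g B) (um h B) := by
  have := lTensor_exact (Q := (B : Type u)) he hs
  simpa [um, LinearMap.baseChange_eq_ltensor] using this

theorem um_surjective (h : N ⟶ P) (hs : Function.Surjective h.hom) (B : Alg A) :
    Function.Surjective (um h B) := by
  have := LinearMap.lTensor_surjective (B : Type u) hs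
  simpa [um, LinearMap.baseChange_eq_ltensor] using this

/-- The product of two modules. -/
abbrev prodObj (M N : ModuleCat.{u + 1} A) : ModuleCat.{u + 1} A := ModuleCat.of A (M × N)

/-- First projection. -/
abbrev pfst (M N : ModuleCat.{u + 1} A) : prodObj M N ⟶ M := ModuleCat.ofHom (LinearMap.fst A M N)

/-- Second projection. -/
abbrev psnd (M N : ModuleCat.{u + 1} A) : prodObj M N ⟶ N := ModuleCat.ofHom (LinearMap.snd A M N)

/-- First inclusion. -/
abbrev pinl (M N : ModuleCat.{u + 1} A) : M ⟶ prodObj M N := ModuleCat.ofHom (LinearMap.inl A M N)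

/-- Second inclusion. -/
abbrev pinr (M N : ModuleCat.{u + 1} A) : N ⟶ prodObj M N := ModuleCat.ofHom (LinearMap.inr A M N)

theorem um_prod_ext {B : Alg A} {x y : UV (prodObj M N) B} (h₁ : um (pfst M N) B x = um (pfst M N) B y)
    (h₂ : um (psnd M N) B x = um (psnd M N) B y) : x = y := by
  have key : ∀ z : UV (prodObj M N) B,
      z = um (pinl M N) B (um (pfst M N) B z) + um (pinr M N) B (um (psnd M N) B z) := by
    intro z
    induction z using TensorProduct.induction_on with
    | zero => simp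
    | tmul b m => simp [← TensorProduct.tmul_add]
    | add a b ha hb => rw [map_add, map_add, map_add, map_add]; conv_lhs => rw [ha, hb]
                       abel
  rw [key x, key y, h₁, h₂]

/-- The joint map to a product. -/
abbrev plift (g : M ⟶ N) (h : M ⟶ P) : M ⟶ prodObj N P := ModuleCat.ofHom (g.hom.prod h.hom)

theorem um_plift_fst (g : M ⟶ N) (h : M ⟶ P) (B : Alg A) (x : UV M B) :
    um (pfst N P) B (um (plift g h) B x) = um g B x :=
  (um_comp _ _ B x).symm.trans (by congr 1)

theorem um_plift_snd (g : M ⟶ N) (h : M ⟶ P) (B : Alg A) (x : UV M B) :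
    um (psnd N P) B (um (plift g h) B x) = um h B x :=
  (um_comp _ _ B x).symm.trans (by congr 1)

theorem um_plift_eq_zero (g : M ⟶ N) (h : M ⟶ P) (B : Alg A) (x : UV M B) :
    um (plift g h) B x = 0 ↔ um g B x = 0 ∧ um h B x = 0 := by
  refine ⟨fun e => ⟨?_, ?_⟩, fun ⟨e₁, e₂⟩ => um_prod_ext ?_ ?_⟩
  · rw [← um_plift_fst g h, e, map_zero]
  · rw [← um_plift_snd g h, e, map_zero]
  · rw [um_plift_fst, e₁, map_zero]
  · rw [um_plift_snd, e₂, map_zero]

theorem um_pinl_fst (B : Alg A) (x : UV M B) : um (pfst M N) B (um (pinl M N) B x) = x :=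
  ((um_comp _ _ B x).symm.trans (congrArg (fun g : M ⟶ M => um g B x) (show pinl M N ≫ pfst M N = 𝟙 M from rfl))).trans
    (LinearMap.congr_fun (LinearMap.baseChange_id (R := A) (A := B) (M := M)) x)

theorem um_pinl_snd (B : Alg A) (x : UV M B) : um (psnd M N) B (um (pinl M N) B x) = 0 :=
  ((um_comp _ _ B x).symm.trans (congrArg (fun g : M ⟶ N => um g B x) (show pinl M N ≫ psnd M N = 0 from rfl))).trans
    (LinearMap.congr_fun (LinearMap.baseChange_zero (R := A) (A := B) (M := M) (N := N)) x)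

theorem um_pinr_fst (B : Alg A) (x : UV N B) : um (pfst M N) B (um (pinr M N) B x) = 0 :=
  ((um_comp _ _ B x).symm.trans (congrArg (fun g : N ⟶ M => um g B x) (show pinr M N ≫ pfst M N = 0 from rfl))).trans
    (LinearMap.congr_fun (LinearMap.baseChange_zero (R := A) (A := B) (M := N) (N := M)) x)

theorem um_pinr_snd (B : Alg A) (x : UV N B) : um (psnd M N) B (um (pinr M N) B x) = x :=
  ((um_comp _ _ B x).symm.trans (congrArg (fun g : N ⟶ N => um g B x) (show pinr M N ≫ psnd M N = 𝟙 N from rfl))).trans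
    (LinearMap.congr_fun (LinearMap.baseChange_id (R := A) (A := B) (M := N)) x)

/-- Cokernel module of a map. -/
abbrev cokObj (g : M ⟶ N) : ModuleCat.{u + 1} A := ModuleCat.of A (N ⧸ LinearMap.range g.hom)

/-- Projection to the cokernel module. -/
abbrev cokπ (g : M ⟶ N) : N ⟶ cokObj g := ModuleCat.ofHom (LinearMap.range g.hom).mkQ

theorem um_cokπ_eq_zero (g : M ⟶ N) (B : Alg A) (y : UV N B) :
    um (cokπ g) B y = 0 ↔ ∃ x, um g B x = y :=
  um_exact g (cokπ g) (LinearMap.exact_map_mkQ_range g.hom) (Submodule.mkQ_surjective _) B y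

end Underline

section Adequate

variable {M N : ModuleCat.{u + 1} A}

/-- The component of a map into an underlined module. -/
abbrev apo {F : MVF A} (φ : F ⟶ (underline A).obj M) (B : Alg A) : F.obj (pt B) →ₗ[B] UV M B :=
  (φ.app (pt B)).hom

/-- The component of a map out of an underlined module. -/
abbrev api {G : MVF A} (i : (underline A).obj M ⟶ G) (B : Alg A) : UV M B →ₗ[B] G.obj (pt B) :=
  (i.app (pt B)).hom

theorem apo_tr {F : MVF A} (φ : F ⟶ (underline A).obj M) {B B' : Alg A} (f : B ⟶ B') (x : F.obj (pt B)) :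
    apo φ B' (tr F f x) = ut M f (apo φ B x) :=
  ap_tr φ f x

theorem api_ut {G : MVF A} (i : (underline A).obj M ⟶ G) {B B' : Alg A} (f : B ⟶ B') (x : UV M B) :
    api i B' (ut M f x) = tr G f (api i B x) :=
  ap_tr i f x

theorem apo_comp_map {F : MVF A} (φ : F ⟶ (underline A).obj M) (g : M ⟶ N) (B : Alg A) (x : F.obj (pt B)) :
    apo (φ ≫ (underline A).map g) B x = um g B (apo φ B x) := rfl

/-- An embedding exhibiting a functor as the kernel of a map of underlined modules. -/
structure Emb (F : MVF A) where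
  /-- the first module -/
  M : ModuleCat.{u + 1} A
  /-- the second module -/
  N : ModuleCat.{u + 1} A
  /-- the map -/
  ψ : M ⟶ N
  /-- the embedding -/
  j : F ⟶ (underline A).obj M
  inj : ∀ B, Function.Injective (apo j B)
  mem : ∀ B x, um ψ B (apo j B x) = 0
  exists_of_mem : ∀ B (m : UV M B), um ψ B m = 0 → ∃ x, apo j B x = m

theorem adequate_of_emb {F : MVF A} (e : Emb F) : adequate A F := by
  refine ⟨e.M, e.N, e.ψ, ?_⟩
  let k : F ⟶ kernel ((underline A).map e.ψ) :=
    kernel.lift _ e.j (hom_ext' fun B x => e.mem B x)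
  have hk : ∀ B x, ap (kernel.ι ((underline A).map e.ψ)) B (ap k B x) = apo e.j B x := fun B x =>
    congrArg (fun (m : F ⟶ (underline A).obj e.M) => ap m B x) (kernel.lift_ι _ _ _)
  haveI := isIso_of_bijective k fun B => ⟨fun x y h => e.inj B ((hk B x).symm.trans ((congrArg _ h).trans (hk B y))),
    fun y => by
      obtain ⟨x, hx⟩ := e.exists_of_mem B (ap (kernel.ι ((underline A).map e.ψ)) B y) (ap_kernel_ι _ B y)
      exact ⟨x, injective_ap_kernel_ι _ B ((hk B x).trans hx)⟩⟩
  exact ⟨asIso k⟩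

/-- The embedding of a kernel. -/
def kerEmb {M N : ModuleCat.{u + 1} A} (ψ : M ⟶ N) : Emb (kernel ((underline A).map ψ)) where
  M := M
  N := N
  ψ := ψ
  j := kernel.ι _
  inj := injective_ap_kernel_ι _
  mem B x := ap_kernel_ι ((underline A).map ψ) B x
  exists_of_mem B m h := exists_kernel ((underline A).map ψ) B m h

theorem nonempty_emb {F : MVF A} (h : adequate A F) : Nonempty (Emb F) := by
  obtain ⟨M, N, φ, ⟨i⟩⟩ := h
  have hi : ∀ B, Function.Bijective (ap i.hom B) := fun B =>
    ⟨(mono_iff' _).1 inferInstance B, (epi_iff' _).1 inferInstance B⟩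
  refine ⟨⟨M, N, φ, i.hom ≫ kernel.ι _, fun B => (injective_ap_kernel_ι _ B).comp (hi B).1,
    fun B x => ap_kernel_ι ((underline A).map φ) B _, fun B m h => ?_⟩⟩
  obtain ⟨y, hy⟩ := exists_kernel ((underline A).map φ) B m h
  obtain ⟨x, rfl⟩ := (hi B).2 y
  exact ⟨x, hy⟩

/-- The image of an adequate functor under a map of underlined modules is adequate. -/
theorem adequate_of_image {G H : MVF A} (e : Emb G) {Q : ModuleCat.{u + 1} A} (α : e.M ⟶ Q) (θ : G ⟶ H) [Epi θ]
    (hθ : ∀ B g, ap θ B g = 0 ↔ um α B (apo e.j B g) = 0) : adequate A H := by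
  obtain ⟨k, hk⟩ := exists_comp_of_forall θ (e.j ≫ (underline A).map α) fun B g h => (hθ B g).1 h
  have hk' : ∀ B g, apo k B (ap θ B g) = um α B (apo e.j B g) := fun B g =>
    congrArg (fun (m : G ⟶ (underline A).obj Q) => ap m B g) hk
  have hs : ∀ B, Function.Surjective (ap θ B) := (epi_iff' θ).1 inferInstance
  let β : Q ⟶ cokObj (plift α e.ψ) := pinl Q e.N ≫ cokπ (plift α e.ψ)
  refine adequate_of_emb ⟨Q, _, β, k, fun B x y h => ?_, fun B x => ?_, fun B m h => ?_⟩
  · obtain ⟨g, hg⟩ := hs B (x - y)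
    have : ap θ B g = 0 := (hθ B g).2 (by rw [← hk', hg, map_sub, h]; exact sub_self _)
    exact sub_eq_zero.1 (hg ▸ this)
  · obtain ⟨g, rfl⟩ := hs B x
    rw [hk', um_comp, um_cokπ_eq_zero]
    refine ⟨apo e.j B g, um_prod_ext ?_ ?_⟩
    · rw [um_plift_fst, um_pinl_fst]
    · rw [um_plift_snd, e.mem, um_pinl_snd]
  · rw [um_comp, um_cokπ_eq_zero] at h
    obtain ⟨x, hx⟩ := h
    have h₁ := congrArg (um (pfst Q e.N) B) hx
    have h₂ := congrArg (um (psnd Q e.N) B) hx
    rw [um_plift_fst, um_pinl_fst] at h₁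
    rw [um_plift_snd, um_pinl_snd] at h₂
    obtain ⟨g, rfl⟩ := e.exists_of_mem B x h₂
    exact ⟨ap θ B g, (hk' B g).trans h₁⟩

end Adequate

end

end Groth.L23.Adq
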