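import Groth.Agent.L23.Adeq.Basic
import Mathlib.AlgebraicTopology.SimplicialObject.Basic
import Mathlib.AlgebraicTopology.AlternatingFaceMapComplex
import Mathlib.Algebra.Homology.ShortComplex.Ab
import Mathlib.Algebra.Homology.ShortComplex.HomologicalComplex
import Mathlib.RingTheory.Flat.FaithfullyFlat.Algebra
import Mathlib.Algebra.Category.Grp.Colimits

/-!
# The Čech complex of a faithfully flat algebra with coefficients in an adequate functor
-/

universe u

open CategoryTheory Limits Opposite TensorProduct Simplicial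

set_option backward.isDefEq.respectTransparency.types false
set_option linter.style.haveILetI false

namespace Groth.L23.Adq

open _root_.Adeq

noncomputable section

variable {R : Type u} [CommRing R] (F : MVF R)

/-- The values of a functor, as modules over the base. -/
def valMod : Alg R ⥤ ModuleCat.{u + 1} R where
  obj A := (ModuleCat.restrictScalars.{u + 1} (algebraMap R A)).obj (F.obj (pt A))
  map {A A'} f := ModuleCat.ofHom
    (X := (ModuleCat.restrictScalars.{u + 1} (algebraMap R A)).obj (F.obj (pt A)))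
    (Y := (ModuleCat.restrictScalars.{u + 1} (algebraMap R A')).obj (F.obj (pt A')))
    { toFun := fun x => tr F f x
      map_add' := fun x y => map_add (tr F f) x y
      map_smul' := fun r x => by
        refine (tr_smul F f (algebraMap R A r) x).trans ?_
        rw [f.hom.commutes]
        rfl }
  map_id A := ModuleCat.hom_ext (LinearMap.ext fun x => tr_id F A x)
  map_comp f g := ModuleCat.hom_ext (LinearMap.ext fun x => tr_comp F f g x)

/-- The values of a functor, as abelian groups. -/
def valAb : Alg R ⥤ AddCommGrpCat.{u + 1} :=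
  valMod F ⋙ forget₂ (ModuleCat.{u + 1} R) AddCommGrpCat.{u + 1}

variable {F}

/-- An element of the value, over the algebra. -/
abbrev vOut {A : Alg R} (x : (valMod F).obj A) : F.obj (pt A) := x

/-- An element of the value, over the base. -/
abbrev vIn {A : Alg R} (x : F.obj (pt A)) : (valMod F).obj A := x


section BC

variable (B : Type u) [CommRing B] [Algebra R B]

/-- The pairing into a common algebra. -/
def pairing {A C : Alg R} (v : algOf R B ⟶ C) (g : A ⟶ C) (F : MVF R) :
    B ⊗[R] (valMod F).obj A →ₗ[R] (valMod F).obj C :=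
  TensorProduct.lift (LinearMap.mk₂ R
    (fun b x => vIn (v.hom b • tr F g (vOut x)))
    (fun b b' x => (congrArg (· • tr F g (vOut x)) (map_add v.hom b b')).trans (add_smul _ _ _))
    (fun r b x => by
      show v.hom (r • b) • tr F g (vOut x) = algebraMap R C r • (v.hom b • tr F g (vOut x))
      rw [map_smul, Algebra.smul_def, mul_smul])
    (fun b x y => by
      show v.hom b • tr F g (vOut x + vOut y) = v.hom b • tr F g (vOut x) + v.hom b • tr F g (vOut y)
      rw [map_add, smul_add])
    (fun r b x => by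
      show v.hom b • tr F g (algebraMap R A r • vOut x) = algebraMap R C r • (v.hom b • tr F g (vOut x))
      rw [tr_smul, g.hom.commutes, smul_smul, smul_smul, mul_comm]))

theorem pairing_tmul {A C : Alg R} (v : algOf R B ⟶ C) (g : A ⟶ C) (F : MVF R) (b : B) (x : (valMod F).obj A) :
    pairing B v g F (b ⊗ₜ[R] x) = vIn (v.hom b • tr F g (vOut x)) := rfl

theorem pairing_natural {A C : Alg R} (v : algOf R B ⟶ C) (g : A ⟶ C) {F G : MVF R} (φ : F ⟶ G)
    (φA : (valMod F).obj A →ₗ[R] (valMod G).obj A) (hφA : ∀ x, φA x = vIn (ap φ A (vOut x))) (z) :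
    pairing B v g G (φA.lTensor B z) = vIn (ap φ C (vOut (pairing B v g F z))) := by
  induction z using TensorProduct.induction_on with
  | zero => rw [map_zero, map_zero, map_zero]; exact (map_zero (ap φ C)).symm
  | tmul b x =>
    rw [LinearMap.lTensor_tmul, pairing_tmul, pairing_tmul, hφA]
    refine Eq.trans ?_ (map_smul (ap φ C) _ _).symm
    exact congrArg (v.hom b • ·) (ap_tr φ g x).symm
  | add x y hx hy =>
    rw [map_add, map_add, map_add, hx, hy]
    exact (map_add (ap φ C) _ _).symm

/-- A component as a linear map over the base. -/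
def apR {F G : MVF R} (φ : F ⟶ G) (A : Alg R) : (valMod F).obj A →ₗ[R] (valMod G).obj A where
  toFun x := ap φ A x
  map_add' x y := map_add (ap φ A) x y
  map_smul' r x := map_smul (ap φ A) (algebraMap R A r) (vOut x)

theorem pairing_underline_bijective (M : ModuleCat.{u + 1} R) (A : Alg R) :
    Function.Bijective (pairing B (A := A) (C := algOf R (B ⊗[R] A))
      (CommAlgCat.ofHom Algebra.TensorProduct.includeLeft)
      (CommAlgCat.ofHom Algebra.TensorProduct.includeRight) ((underline R).obj M)) := by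
  let e₀ : (valMod ((underline R).obj M)).obj A ≃ₗ[R] (A : Type u) ⊗[R] M :=
    { toFun := fun x => x
      invFun := fun x => x
      map_add' := fun _ _ => rfl
      map_smul' := fun r x => algebraMap_smul (A : Type u) r (@id ((A : Type u) ⊗[R] M) x)
      left_inv := fun _ => rfl
      right_inv := fun _ => rfl }
  let E := (TensorProduct.congr (LinearEquiv.refl R B) e₀).trans (TensorProduct.assoc R B A M).symm
  have hb : ∀ (b : B) (w : (A : Type u) ⊗[R] M),
      pairing B (A := A) (C := algOf R (B ⊗[R] A))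
        (CommAlgCat.ofHom Algebra.TensorProduct.includeLeft)
        (CommAlgCat.ofHom Algebra.TensorProduct.includeRight) ((underline R).obj M) (b ⊗ₜ[R] e₀.symm w) =
        (TensorProduct.assoc R B A M).symm (b ⊗ₜ[R] w) := by
    intro b w
    induction w using TensorProduct.induction_on with
    | zero =>
      rw [map_zero, TensorProduct.tmul_zero, TensorProduct.tmul_zero, map_zero, map_zero]
      rfl
    | tmul c m =>
      rw [pairing_tmul, TensorProduct.assoc_symm_tmul]
      show ((b ⊗ₜ[R] (1 : A)) * ((1 : B) ⊗ₜ[R] c) : B ⊗[R] A) ⊗ₜ[R] m = (b ⊗ₜ[R] c) ⊗ₜ[R] m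
      rw [Algebra.TensorProduct.tmul_mul_tmul, one_mul, mul_one]
    | add p q hp hq =>
      rw [map_add, TensorProduct.tmul_add, TensorProduct.tmul_add, map_add, map_add, hp, hq]
      rfl
  have h : ∀ z, pairing B (A := A) (C := algOf R (B ⊗[R] A))
      (CommAlgCat.ofHom Algebra.TensorProduct.includeLeft)
      (CommAlgCat.ofHom Algebra.TensorProduct.includeRight) ((underline R).obj M) z = E z := by
    intro z
    induction z using TensorProduct.induction_on with
    | zero => exact (map_zero _).trans (map_zero E).symm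
    | tmul b x => exact hb b (e₀ x)
    | add y₁ y₂ h₁ h₂ =>
      refine (map_add _ _ _).trans ?_
      rw [h₁, h₂, map_add]
      rfl
  rw [show (pairing B (A := A) (C := algOf R (B ⊗[R] A))
      (CommAlgCat.ofHom Algebra.TensorProduct.includeLeft)
      (CommAlgCat.ofHom Algebra.TensorProduct.includeRight) ((underline R).obj M) : _ → _) = E from funext h]
  exact E.bijective

theorem pairing_bijective [Module.Flat R B] (e : Emb F) (A : Alg R) :
    Function.Bijective (pairing B (A := A) (C := algOf R (B ⊗[R] A))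
      (CommAlgCat.ofHom Algebra.TensorProduct.includeLeft)
      (CommAlgCat.ofHom Algebra.TensorProduct.includeRight) F) := by
  set v : algOf R B ⟶ algOf R (B ⊗[R] A) := CommAlgCat.ofHom Algebra.TensorProduct.includeLeft
  set g : A ⟶ algOf R (B ⊗[R] A) := CommAlgCat.ofHom Algebra.TensorProduct.includeRight
  let j := apR e.j A
  let ψ := apR ((underline R).map e.ψ) A
  have hM := pairing_underline_bijective B e.M A
  have hN := pairing_underline_bijective B e.N A
  have hj : ∀ z, pairing B v g _ (j.lTensor B z) = vIn (ap e.j (algOf R (B ⊗[R] A)) (vOut (pairing B v g F z))) :=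
    pairing_natural B v g e.j j fun _ => rfl
  have hψ : ∀ z, pairing B v g _ (ψ.lTensor B z) = vIn (ap ((underline R).map e.ψ) (algOf R (B ⊗[R] A)) (vOut (pairing B v g _ z))) :=
    pairing_natural B v g ((underline R).map e.ψ) ψ fun _ => rfl
  constructor
  · refine (injective_iff_map_eq_zero _).2 fun z hz => ?_
    have h := hj z
    rw [hz] at h
    have h' : j.lTensor B z = 0 := (injective_iff_map_eq_zero _).1 hM.1 _ (h.trans (map_zero (ap e.j _)))
    exact (injective_iff_map_eq_zero _).1
      (Module.Flat.lTensor_preserves_injective_linearMap (M := B) j (e.inj A)) z h'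
  · intro y
    obtain ⟨z, hz⟩ := hM.2 (vIn (ap e.j (algOf R (B ⊗[R] A)) (vOut y)))
    have h := hψ z
    rw [hz] at h
    have h0 : ψ.lTensor B z = 0 :=
      (injective_iff_map_eq_zero _).1 hN.1 _ (h.trans (e.mem _ (vOut y)))
    have hex : Function.Exact j ψ := fun m =>
      ⟨fun hm => e.exists_of_mem A m hm, fun ⟨x, hx⟩ => hx ▸ e.mem A (vOut x)⟩
    obtain ⟨w, hw⟩ := ((Module.Flat.lTensor_exact B hex) z).1 h0
    refine ⟨w, e.inj _ ?_⟩
    exact (hj w).symm.trans ((congrArg _ hw).trans hz)

theorem pairing_bijective_of_bijective [Module.Flat R B] (e : Emb F) {A C : Alg R} (v : algOf R B ⟶ C) (g : A ⟶ C)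
    (hq : Function.Bijective (Algebra.TensorProduct.lift v.hom g.hom fun _ _ => Commute.all _ _)) :
    Function.Bijective (pairing B v g F) := by
  let q : algOf R (B ⊗[R] A) ⟶ C :=
    CommAlgCat.ofHom (Algebra.TensorProduct.lift v.hom g.hom fun _ _ => Commute.all _ _)
  let q' : C ⟶ algOf R (B ⊗[R] A) := CommAlgCat.ofHom (AlgEquiv.ofBijective _ hq).symm.toAlgHom
  have h₁ : q ≫ q' = 𝟙 _ :=
    CommAlgCat.hom_ext (AlgHom.ext fun x => (AlgEquiv.ofBijective _ hq).symm_apply_apply x)
  have h₂ : q' ≫ q = 𝟙 _ :=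
    CommAlgCat.hom_ext (AlgHom.ext fun x => (AlgEquiv.ofBijective _ hq).apply_symm_apply x)
  have hb : Function.Bijective (tr F q) := Function.bijective_iff_has_inverse.2 ⟨tr F q',
    fun x => by rw [← tr_comp, h₁, tr_id], fun x => by rw [← tr_comp, h₂, tr_id]⟩
  have hgq : (CommAlgCat.ofHom Algebra.TensorProduct.includeRight : A ⟶ algOf R (B ⊗[R] A)) ≫ q = g :=
    CommAlgCat.hom_ext (Algebra.TensorProduct.lift_comp_includeRight v.hom g.hom fun _ _ => Commute.all _ _)
  have key : ∀ z, vOut (pairing B v g F z) = tr F q (vOut (pairing B (A := A) (C := algOf R (B ⊗[R] A))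
      (CommAlgCat.ofHom Algebra.TensorProduct.includeLeft)
      (CommAlgCat.ofHom Algebra.TensorProduct.includeRight) F z)) := by
    intro z
    induction z using TensorProduct.induction_on with
    | zero => rw [map_zero, map_zero]; exact (map_zero (tr F q)).symm
    | tmul b x =>
      rw [pairing_tmul, pairing_tmul]
      refine Eq.trans ?_ (tr_smul F q _ _).symm
      refine congrArg₂ (· • ·)
        (AlgHom.congr_fun (Algebra.TensorProduct.lift_comp_includeLeft v.hom g.hom fun _ _ => Commute.all _ _) b).symm ?_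
      rw [← tr_comp, hgq]
    | add x y hx hy =>
      rw [map_add, map_add]
      exact (congrArg₂ (· + ·) hx hy).trans (map_add (tr F q) _ _).symm
  exact (show (pairing B v g F : _ → _) = fun z => vIn (tr F q (vOut (pairing B _ _ F z))) from funext key) ▸
    hb.comp (pairing_bijective B e A)

end BC

section Exact

variable (X : CosimplicialObject (Alg R)) (B : Type u) [CommRing B] [Algebra R B]

/-- A coface, on values. -/
abbrev dlt (F : MVF R) {n : ℕ} (i : Fin (n + 2)) :
    (valMod F).obj (X ^⦋n⦌) →ₗ[R] (valMod F).obj (X ^⦋n + 1⦌) := ((valMod F).map (X.δ i)).hom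

theorem exact_valMod [Module.FaithfullyFlat R B] (e : Emb F) (v : ∀ n, algOf R B ⟶ X ^⦋n⦌)
    (hv : ∀ n (i : Fin (n + 1)), v n ≫ X.δ i.succ = v (n + 1))
    (hq : ∀ n, Function.Bijective
      (Algebra.TensorProduct.lift (v (n + 1)).hom (X.δ (n := n) 0).hom fun _ _ => Commute.all _ _))
    (n : ℕ) (x : (valMod F).obj (X ^⦋n + 1⦌))
    (hx : ∑ i : Fin (n + 3), ((-1 : ℤ) ^ (i : ℕ)) • dlt X F i x = 0) :
    ∃ w, ∑ i : Fin (n + 2), ((-1 : ℤ) ^ (i : ℕ)) • dlt X F i w = x := by
  let d : ∀ n, (valMod F).obj (X ^⦋n⦌) →ₗ[R] (valMod F).obj (X ^⦋n + 1⦌) := fun n =>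
    ∑ i : Fin (n + 2), ((-1 : ℤ) ^ (i : ℕ)) • dlt X F i
  let d' : ∀ n, (valMod F).obj (X ^⦋n + 1⦌) →ₗ[R] (valMod F).obj (X ^⦋n + 2⦌) := fun n =>
    ∑ i : Fin (n + 2), ((-1 : ℤ) ^ (i : ℕ)) • dlt X F i.succ
  let Φ : ∀ n, B ⊗[R] (valMod F).obj (X ^⦋n⦌) →ₗ[R] (valMod F).obj (X ^⦋n + 1⦌) := fun n =>
    pairing B (v (n + 1)) (X.δ 0) F
  have hΦ : ∀ n, Function.Bijective (Φ n) := fun n => pairing_bijective_of_bijective B e _ _ (hq n)
  have hd : ∀ n y, d n y = ∑ i : Fin (n + 2), ((-1 : ℤ) ^ (i : ℕ)) • dlt X F i y := fun n y => by simp [d]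
  have hd' : ∀ n y, d' n y = ∑ i : Fin (n + 2), ((-1 : ℤ) ^ (i : ℕ)) • dlt X F i.succ y := fun n y => by simp [d']
  have hcomm : ∀ n z, d' n (Φ n z) = Φ (n + 1) ((d n).lTensor B z) := by
    intro n z
    induction z using TensorProduct.induction_on with
    | zero => rw [map_zero, map_zero, map_zero, map_zero]
    | tmul b y =>
      rw [LinearMap.lTensor_tmul, hd, hd', TensorProduct.tmul_sum, map_sum]
      refine Finset.sum_congr rfl fun i _ => ?_
      rw [TensorProduct.tmul_smul, map_zsmul]
      refine congrArg (((-1 : ℤ) ^ (i : ℕ)) • ·) ?_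
      show tr F (X.δ i.succ) ((v (n + 1)).hom b • tr F (X.δ 0) (vOut y)) =
        (v (n + 2)).hom b • tr F (X.δ 0) (tr F (X.δ i) (vOut y))
      rw [tr_smul, ← tr_comp, ← tr_comp]
      refine congrArg₂ (· • ·) (congrArg (fun k => k.hom b) (hv (n + 1) i)) ?_
      exact congrArg (fun k => tr F k (vOut y)) (X.δ_comp_δ (Fin.zero_le i))
    | add p q hp hq => rw [map_add, map_add, map_add, map_add, hp, hq]
  have hhom : ∀ n (z : (valMod F).obj (X ^⦋n + 2⦌)), d' (n + 1) z = 0 →
      ∃ s, d' n s = z := by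
    intro n z hz
    let s : (valMod F).obj (X ^⦋n + 1⦌) := ((valMod F).map (X.σ (n := n + 1) 0)).hom z
    refine ⟨s, ?_⟩
    have h0 : ((valMod F).map (X.σ (n := n + 2) 0)).hom (d' (n + 1) z) = 0 := by rw [hz, map_zero]
    rw [hd', map_sum, Fin.sum_univ_succ] at h0
    simp only [map_zsmul, Fin.val_zero, pow_zero, one_zsmul] at h0
    have e0 : ((valMod F).map (X.σ (n := n + 2) 0)).hom (dlt X F (n := n + 2) (Fin.succ 0) z) = z := by
      show tr F _ (tr F _ (vOut z)) = vOut z
      rw [← tr_comp, X.δ_comp_σ_succ, tr_id]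
    have e1 : ∀ i : Fin (n + 2), ((valMod F).map (X.σ (n := n + 2) 0)).hom
        (dlt X F (n := n + 2) i.succ.succ z) = dlt X F i.succ s := by
      intro i
      show tr F _ (tr F _ (vOut z)) = tr F _ (tr F _ (vOut z))
      rw [← tr_comp, ← tr_comp]
      exact congrArg (fun k => tr F k (vOut z))
        (X.δ_comp_σ_of_gt (i := i.succ) (j := 0) (by exact Fin.succ_pos i))
    rw [hd']
    rw [e0] at h0
    refine Eq.trans ?_ (eq_neg_of_add_eq_zero_left h0).symm
    rw [← Finset.sum_neg_distrib]
    refine Finset.sum_congr rfl fun i _ => ?_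
    rw [e1, Fin.val_succ, pow_succ, mul_neg_one, neg_zsmul, neg_neg]
  have hx' : d (n + 1) x = 0 := (hd _ x).trans hx
  obtain ⟨s, hs⟩ := hhom n (Φ (n + 1) (1 ⊗ₜ[R] x)) (by
    rw [hcomm, LinearMap.lTensor_tmul, hx', TensorProduct.tmul_zero, map_zero])
  obtain ⟨y, rfl⟩ := (hΦ n).2 s
  rw [hcomm] at hs
  have hy := (hΦ (n + 1)).1 hs
  have hzero : Submodule.Quotient.mk (p := LinearMap.range (d n)) x = 0 := by
    apply Module.FaithfullyFlat.tensorProduct_mk_injective (A := R) (B := B) _
    show (1 : B) ⊗ₜ[R] (LinearMap.range (d n)).mkQ x = (1 : B) ⊗ₜ[R] 0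
    rw [TensorProduct.tmul_zero, ← LinearMap.lTensor_tmul, ← hy, ← LinearMap.lTensor_comp_apply,
      LinearMap.range_mkQ_comp, LinearMap.lTensor_zero, LinearMap.zero_apply]
  obtain ⟨w, hw⟩ := (Submodule.Quotient.mk_eq_zero _).1 hzero
  exact ⟨w, (hd n w).symm.trans hw⟩

theorem exactAt_valAb [Module.FaithfullyFlat R B] (e : Emb F) (v : ∀ n, algOf R B ⟶ X ^⦋n⦌)
    (hv : ∀ n (i : Fin (n + 1)), v n ≫ X.δ i.succ = v (n + 1))
    (hq : ∀ n, Function.Bijective
      (Algebra.TensorProduct.lift (v (n + 1)).hom (X.δ (n := n) 0).hom fun _ _ => Commute.all _ _))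
    (n : ℕ) (hn : 0 < n) :
    ((AlgebraicTopology.alternatingCofaceMapComplex AddCommGrpCat.{u + 1}).obj
      (((CosimplicialObject.whiskering _ _).obj (valAb F)).obj X)).ExactAt n := by
  obtain ⟨n, rfl⟩ : ∃ m, n = m + 1 := ⟨n - 1, by omega⟩
  rw [HomologicalComplex.exactAt_iff' _ n (n + 1) (n + 2) (by simp) (by simp), ShortComplex.ab_exact_iff]
  intro x hx
  have key : ∀ m (y : (valMod F).obj (X ^⦋m⦌)),
      ((AlgebraicTopology.alternatingCofaceMapComplex AddCommGrpCat.{u + 1}).obj
        (((CosimplicialObject.whiskering _ _).obj (valAb F)).obj X)).d m (m + 1) y =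
        ∑ i : Fin (m + 2), ((-1 : ℤ) ^ (i : ℕ)) • dlt X F i y := by
    intro m y
    let W := ((CosimplicialObject.whiskering (Alg R) AddCommGrpCat.{u + 1}).obj (valAb F)).obj X
    refine (ConcreteCategory.congr_hom (CochainComplex.of_d (fun n => W.obj (SimplexCategory.mk n))
      (AlgebraicTopology.AlternatingCofaceMapComplex.objD W) m) y).trans ?_
    let ev : (W.obj (SimplexCategory.mk m) ⟶ W.obj (SimplexCategory.mk (m + 1))) →+
        W.obj (SimplexCategory.mk (m + 1)) := AddMonoidHom.mk' (fun φ => φ y) fun _ _ => rfl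
    refine (map_sum ev _ _).trans (Finset.sum_congr rfl fun i _ => ?_)
    exact map_zsmul ev _ _
  obtain ⟨w, hw⟩ := exact_valMod X B e v hv hq n x ((key (n + 1) x).symm.trans hx)
  exact ⟨w, (key n w).trans hw⟩

end Exact

end

end Groth.L23.Adq
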