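import Groth.Agent.L23.Adeq.Cover
import Mathlib.LinearAlgebra.TensorProduct.Tower

/-!
# Change of the base ring for adequate functors
-/

universe u

open CategoryTheory Limits Opposite TensorProduct

set_option backward.isDefEq.respectTransparency.types false
set_option linter.style.haveILetI false

namespace Groth.L23.Adq

open _root_.Adeq

noncomputable section

variable {A A' : Type u} [CommRing A] [CommRing A'] [Algebra A A']

section Restr

variable {M N : ModuleCat.{u + 1} A}

/-- The base change of a module. -/
abbrev bcMod (A' : Type u) [CommRing A'] [Algebra A A'] (M : ModuleCat.{u + 1} A) : ModuleCat.{u + 1} A' :=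
  ModuleCat.of A' (A' ⊗[A] M)

/-- The base change of a map. -/
abbrev bcMap (A' : Type u) [CommRing A'] [Algebra A A'] (g : M ⟶ N) : bcMod A' M ⟶ bcMod A' N :=
  ModuleCat.ofHom (g.hom.baseChange A')

/-- The comparison for restriction. -/
def restrE (M : ModuleCat.{u + 1} A) (B' : Alg A') :
    UV (bcMod A' M) B' ≃+ UV M ((Alg.restr A A').obj B') :=
  letI : Algebra A B' := ((algebraMap A' B').comp (algebraMap A A')).toAlgebra
  haveI : IsScalarTower A A' B' := IsScalarTower.of_algebraMap_eq fun _ => rfl
  (TensorProduct.AlgebraTensorModule.cancelBaseChange A A' B' B' M).toAddEquiv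

theorem restrE_tmul (M : ModuleCat.{u + 1} A) (B' : Alg A') (b : B') (a : A') (m : M) :
    restrE M B' (b ⊗ₜ[A'] (a ⊗ₜ[A] m)) = @id ((Alg.restr A A').obj B' : Type u) (a • b : B') ⊗ₜ[A] m := rfl

theorem restrE_smul (M : ModuleCat.{u + 1} A) (B' : Alg A') (b : B') (x : UV (bcMod A' M) B') :
    restrE M B' (b • x) = (b : (Alg.restr A A').obj B') • restrE M B' x := by
  letI : Algebra A B' := ((algebraMap A' B').comp (algebraMap A A')).toAlgebra
  haveI : IsScalarTower A A' B' := IsScalarTower.of_algebraMap_eq fun _ => rfl
  exact (TensorProduct.AlgebraTensorModule.cancelBaseChange A A' B' B' M).map_smul b x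

theorem restrE_um (g : M ⟶ N) (B' : Alg A') (x : UV (bcMod A' M) B') :
    restrE N B' (um (bcMap A' g) B' x) = um g ((Alg.restr A A').obj B') (restrE M B' x) := by
  induction x using TensorProduct.induction_on with
  | zero => simp
  | tmul b y =>
    induction y using TensorProduct.induction_on with
    | zero => simp
    | tmul a m => rfl
    | add y z hy hz => rw [TensorProduct.tmul_add, map_add, map_add, map_add, map_add, hy, hz]
  | add y z hy hz => rw [map_add, map_add, map_add, map_add, hy, hz]

theorem restrE_ut (M : ModuleCat.{u + 1} A) {B' C' : Alg A'} (f : B' ⟶ C') (x : UV (bcMod A' M) B') :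
    restrE M C' (ut (bcMod A' M) f x) = ut M ((Alg.restr A A').map f) (restrE M B' x) := by
  induction x using TensorProduct.induction_on with
  | zero => simp
  | tmul b y =>
    induction y using TensorProduct.induction_on with
    | zero => simp
    | tmul a m =>
      rw [LinearMap.rTensor_tmul, restrE_tmul, restrE_tmul, LinearMap.rTensor_tmul]
      exact congrArg (· ⊗ₜ[A] m) (f.hom.toLinearMap.map_smul a b).symm
    | add y z hy hz => rw [TensorProduct.tmul_add, map_add, map_add, map_add, map_add, hy, hz]
  | add y z hy hz => rw [map_add, map_add, map_add, map_add, hy, hz]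

/-- The embedding of a restricted functor. -/
def restrEmb {F : MVF A} (e : Emb F) : Emb ((restr A A').obj F) where
  M := bcMod A' e.M
  N := bcMod A' e.N
  ψ := bcMap A' e.ψ
  j := mkHom
    (fun B' =>
      { toFun := fun x => (restrE e.M B').symm (apo e.j ((Alg.restr A A').obj B') x)
        map_add' := fun x y => (congrArg _ (map_add (apo e.j ((Alg.restr A A').obj B')) x y)).trans (map_add _ _ _)
        map_smul' := fun b x => (restrE e.M B').injective (by
          rw [AddEquiv.apply_symm_apply]
          refine (map_smul (apo e.j ((Alg.restr A A').obj B')) b x).trans ?_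
          exact (congrArg (b • ·) ((restrE e.M B').apply_symm_apply _).symm).trans
            (restrE_smul e.M B' b _).symm) })
    fun B' C' f x => (restrE e.M C').injective (by
      refine ((restrE e.M C').apply_symm_apply _).trans ?_
      refine (apo_tr e.j ((Alg.restr A A').map f) x).trans ?_
      exact ((congrArg (ut e.M _) ((restrE e.M B').apply_symm_apply _).symm).trans
        (restrE_ut e.M f _).symm))
  inj B' := (restrE e.M B').symm.injective.comp (e.inj ((Alg.restr A A').obj B'))
  mem B' x := (restrE e.N B').injective (by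
    rw [map_zero, restrE_um]
    exact (congrArg (um e.ψ ((Alg.restr A A').obj B')) ((restrE e.M B').apply_symm_apply _)).trans
      (e.mem _ x))
  exists_of_mem B' m h := by
    obtain ⟨x, hx⟩ := e.exists_of_mem ((Alg.restr A A').obj B') (restrE e.M B' m)
      (by rw [← restrE_um, h, map_zero])
    exact ⟨x, (congrArg _ hx).trans ((restrE e.M B').symm_apply_apply m)⟩

end Restr

section Push

variable {M N : ModuleCat.{u + 1} A'}

/-- Restriction of scalars of a module. -/
abbrev rsMod (A : Type u) [CommRing A] [Algebra A A'] (M : ModuleCat.{u + 1} A') : ModuleCat.{u + 1} A :=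
  (ModuleCat.restrictScalars.{u + 1} (algebraMap A A')).obj M

/-- Restriction of scalars of a map. -/
abbrev rsMap (A : Type u) [CommRing A] [Algebra A A'] (g : M ⟶ N) : rsMod A M ⟶ rsMod A N :=
  (ModuleCat.restrictScalars.{u + 1} (algebraMap A A')).map g

/-- The comparison for push forward. -/
def pushE (M : ModuleCat.{u + 1} A') (B : Alg A) :
    UV M ((Alg.baseChange A A').obj B) ≃+ UV (rsMod A M) B :=
  letI : Module A M := Module.compHom M (algebraMap A A')
  haveI : IsScalarTower A A' M := IsScalarTower.of_algebraMap_smul fun _ _ => rfl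
  ((TensorProduct.comm A' (A' ⊗[A] B) M).toAddEquiv.trans
    (TensorProduct.AlgebraTensorModule.cancelBaseChange A A' A' M B).toAddEquiv).trans
    (TensorProduct.comm A M B).toAddEquiv

theorem pushE_tmul (M : ModuleCat.{u + 1} A') (B : Alg A) (a : A') (b : B) (m : M) :
    pushE M B ((a ⊗ₜ[A] b : A' ⊗[A] B) ⊗ₜ[A'] m) = b ⊗ₜ[A] @id (rsMod A M : Type (u + 1)) (a • m : M) := rfl

theorem pushE_smul (M : ModuleCat.{u + 1} A') (B : Alg A) (b : B)
    (x : UV M ((Alg.baseChange A A').obj B)) :
    pushE M B (((1 : A') ⊗ₜ[A] b : (Alg.baseChange A A').obj B) • x) = b • pushE M B x := by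
  induction x using TensorProduct.induction_on with
  | zero => simp
  | tmul y m =>
    induction y using TensorProduct.induction_on with
    | zero => simp
    | tmul a c =>
      show pushE M B ((((1 : A') ⊗ₜ[A] b) * (a ⊗ₜ[A] c) : A' ⊗[A] B) ⊗ₜ[A'] m) = _
      rw [Algebra.TensorProduct.tmul_mul_tmul, one_mul]
      rfl
    | add y z hy hz => rw [TensorProduct.add_tmul, smul_add, map_add, map_add, smul_add, hy, hz]
  | add y z hy hz => rw [smul_add, map_add, map_add, smul_add, hy, hz]

theorem pushE_um (g : M ⟶ N) (B : Alg A) (x : UV M ((Alg.baseChange A A').obj B)) :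
    pushE N B (um g ((Alg.baseChange A A').obj B) x) = um (rsMap A g) B (pushE M B x) := by
  induction x using TensorProduct.induction_on with
  | zero => simp
  | tmul y m =>
    induction y using TensorProduct.induction_on with
    | zero => simp
    | tmul a c =>
      rw [LinearMap.baseChange_tmul, pushE_tmul, pushE_tmul, LinearMap.baseChange_tmul]
      exact congrArg (c ⊗ₜ[A] ·) (g.hom.map_smul a m).symm
    | add y z hy hz => rw [TensorProduct.add_tmul, map_add, map_add, map_add, map_add, hy, hz]
  | add y z hy hz => rw [map_add, map_add, map_add, map_add, hy, hz]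

theorem pushE_ut (M : ModuleCat.{u + 1} A') {B C : Alg A} (f : B ⟶ C)
    (x : UV M ((Alg.baseChange A A').obj B)) :
    pushE M C (ut M ((Alg.baseChange A A').map f) x) = ut (rsMod A M) f (pushE M B x) := by
  induction x using TensorProduct.induction_on with
  | zero => simp
  | tmul y m =>
    induction y using TensorProduct.induction_on with
    | zero => simp
    | tmul a c =>
      rw [LinearMap.rTensor_tmul, pushE_tmul, LinearMap.rTensor_tmul]
      rfl
    | add y z hy hz => rw [TensorProduct.add_tmul, map_add, map_add, map_add, map_add, hy, hz]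
  | add y z hy hz => rw [map_add, map_add, map_add, map_add, hy, hz]

/-- The embedding of a pushed functor. -/
def pushEmb {F : MVF A'} (e : Emb F) : Emb ((push A A').obj F) where
  M := rsMod A e.M
  N := rsMod A e.N
  ψ := rsMap A e.ψ
  j := mkHom
    (fun B =>
      { toFun := fun x => pushE e.M B (apo e.j ((Alg.baseChange A A').obj B) x)
        map_add' := fun x y => (congrArg _ (map_add (apo e.j ((Alg.baseChange A A').obj B)) x y)).trans (map_add _ _ _)
        map_smul' := fun b x => (congrArg (pushE e.M B) (map_smul (apo e.j ((Alg.baseChange A A').obj B))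
          ((1 : A') ⊗ₜ[A] b : (Alg.baseChange A A').obj B) (@id (F.obj (pt ((Alg.baseChange A A').obj B))) x))).trans (pushE_smul e.M B b _) })
    fun B C f x => (congrArg (pushE e.M C) (apo_tr e.j ((Alg.baseChange A A').map f) x)).trans (pushE_ut e.M f _)
  inj B := (pushE e.M B).injective.comp (e.inj ((Alg.baseChange A A').obj B))
  mem B x := (pushE_um e.ψ B _).symm.trans ((congrArg _ (e.mem _ x)).trans (map_zero _))
  exists_of_mem B m h := by
    obtain ⟨x, hx⟩ := e.exists_of_mem ((Alg.baseChange A A').obj B) ((pushE e.M B).symm m)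
      ((pushE e.N B).injective (by rw [pushE_um, AddEquiv.apply_symm_apply, h, map_zero]))
    exact ⟨x, (congrArg (pushE e.M B) hx).trans ((pushE e.M B).apply_symm_apply m)⟩

end Push

theorem adequate_restr' {F : MVF A} (h : adequate A F) : adequate A' ((restr A A').obj F) :=
  adequate_of_emb (restrEmb (nonempty_emb h).some)

theorem adequate_push' {F : MVF A'} (h : adequate A' F) : adequate A ((push A A').obj F) :=
  adequate_of_emb (pushEmb (nonempty_emb h).some)

/-- The unit map to the base changed functor. -/
def unitMap (F : MVF A) : F ⟶ (push A A').obj ((restr A A').obj F) :=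
  mkHom
    (fun B =>
      { toFun := fun x => tr F (Alg.unit A A' B) x
        map_add' := fun x y => map_add (tr F (Alg.unit A A' B)) x y
        map_smul' := fun b x => tr_smul F (Alg.unit A A' B) b x })
    fun B C f x => by
      have h : f ≫ Alg.unit A A' C = Alg.unit A A' B ≫ (Alg.restr A A').map ((Alg.baseChange A A').map f) :=
        by apply CommAlgCat.hom_ext; refine DFunLike.ext _ _ fun b => ?_; rfl
      show tr F (Alg.unit A A' C) (tr F f x) =
        tr F ((Alg.restr A A').map ((Alg.baseChange A A').map f)) (tr F (Alg.unit A A' B) x)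
      rw [← tr_comp, h, tr_comp]

set_option maxHeartbeats 1000000 in
/-- Descent of adequacy. -/
theorem adequate_of_exact (F : MVF A) (h₁ : adequate A' ((restr A A').obj F))
    (hinj : ∀ B : Alg A, Function.Injective (tr F (Alg.unit A A' B)))
    (hex : ∀ (B : Alg A) (y : F.obj (pt ((Alg.restr A A').obj ((Alg.baseChange A A').obj B)))),
      tr F (Alg.unit A A' ((Alg.restr A A').obj ((Alg.baseChange A A').obj B))) y =
        tr F ((Alg.restr A A').map ((Alg.baseChange A A').map (Alg.unit A A' B))) y →
      ∃ x, tr F (Alg.unit A A' B) x = y) : adequate A F := by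
  let η : F ⟶ (push A A').obj ((restr A A').obj F) := unitMap F
  let d : (push A A').obj ((restr A A').obj F) ⟶
      (push A A').obj ((restr A A').obj ((push A A').obj ((restr A A').obj F))) :=
    unitMap _ - (push A A').map ((restr A A').map η)
  have hd : ∀ (B : Alg A) (y : F.obj (pt ((Alg.restr A A').obj ((Alg.baseChange A A').obj B)))),
      ap d B y = tr F ((Alg.restr A A').map ((Alg.baseChange A A').map (Alg.unit A A' B))) y -
        tr F (Alg.unit A A' ((Alg.restr A A').obj ((Alg.baseChange A A').obj B))) y := fun B y => rfl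
  have h0 : η ≫ d = 0 := hom_ext' fun B x => by
    show ap d B (tr F (Alg.unit A A' B) x) = 0
    refine (hd B _).trans (sub_eq_zero.2 ?_)
    rw [← tr_comp, ← tr_comp]
    refine congrArg (fun (k : B ⟶ _) => tr F k x) ?_
    apply CommAlgCat.hom_ext; refine DFunLike.ext _ _ fun b => ?_; rfl
  have hlift : ∀ B x, ap (kernel.ι d) B (ap (kernel.lift d η h0) B x) = ap η B x := fun B x =>
    congrArg (fun (k : F ⟶ (push A A').obj ((restr A A').obj F)) => ap k B x) (kernel.lift_ι d η h0)
  haveI : IsIso (kernel.lift d η h0) := isIso_of_bijective _ fun B => by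
    refine ⟨fun x y h => hinj B ((hlift B x).symm.trans ((congrArg _ h).trans (hlift B y))), fun y => ?_⟩
    obtain ⟨x, hx⟩ := hex B _ (sub_eq_zero.1 ((hd B _).symm.trans (ap_kernel_ι d B y))).symm
    exact ⟨x, injective_ap_kernel_ι d B ((hlift B x).trans hx)⟩
  exact (adequate A).prop_of_iso (asIso (kernel.lift d η h0)).symm
    (adequate_kernel d (adequate_push' h₁) (adequate_push' (adequate_restr' (adequate_push' h₁))))

end

end Groth.L23.Adq
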