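import Groth.Agent.L23.Adeq.Basic
import Mathlib.RingTheory.MvPolynomial.Basic
import Mathlib.RingTheory.Ideal.Quotient.Operations
import Mathlib.Algebra.Polynomial.AlgebraMap
import Mathlib.RingTheory.TensorProduct.Free
import Mathlib.LinearAlgebra.FreeModule.Finite.Basic

/-!
# The universal element of a linearly adequate functor
-/

universe u

open CategoryTheory Limits Opposite TensorProduct
open scoped Polynomial

set_option backward.isDefEq.respectTransparency.types false
set_option linter.style.haveILetI false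

namespace Groth.L23.Adq

open _root_.Adeq

noncomputable section

variable {A : Type u} [CommRing A]

/-- Constants into the polynomial algebra. -/
abbrev cst (R : Alg A) : R ⟶ algOf A (R : Type u)[X] :=
  CommAlgCat.ofHom (IsScalarTower.toAlgHom A R (R : Type u)[X])

/-- The degree one coefficient. -/
abbrev c1 (R : Alg A) : (R : Type u)[X] →ₗ[A] R := (Polynomial.lcoeff R 1).restrictScalars A

variable {P P' M : ModuleCat.{u + 1} A}

theorem ut_smul (M : ModuleCat.{u + 1} A) {B B' : Alg A} (f : B ⟶ B') (b : B) (x : UV M B) :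
    ut M f (b • x) = f.hom b • ut M f x := by
  induction x using TensorProduct.induction_on with
  | zero => simp
  | tmul c m => simp [TensorProduct.smul_tmul']
  | add x y hx hy => rw [smul_add, map_add, map_add, smul_add, hx, hy]

theorem ut_comp (M : ModuleCat.{u + 1} A) {B B' B'' : Alg A} (f : B ⟶ B') (g : B' ⟶ B'') (x : UV M B) :
    ut M (f ≫ g) x = ut M g (ut M f x) := by
  rw [ut, CommAlgCat.hom_comp, AlgHom.comp_toLinearMap, LinearMap.rTensor_comp_apply]

theorem um_ut (g : P ⟶ M) {B B' : Alg A} (f : B ⟶ B') (x : UV P B) : um g B' (ut P f x) = ut M f (um g B x) := by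
  induction x using TensorProduct.induction_on with
  | zero => simp
  | tmul c m => simp
  | add x y hx hy => rw [map_add, map_add, map_add, map_add, hx, hy]

theorem c1_smul_cst (R : Alg A) (η : UV M R) :
    (c1 R).rTensor M ((Polynomial.X : (R : Type u)[X]) • ut M (cst R) η) = η := by
  induction η using TensorProduct.induction_on with
  | zero => simp
  | tmul r m =>
    rw [LinearMap.rTensor_tmul, TensorProduct.smul_tmul', LinearMap.rTensor_tmul]
    congr 1
    show (Polynomial.X * Polynomial.C r : (R : Type u)[X]).coeff 1 = r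
    simp
  | add x y hx hy => rw [map_add, smul_add, map_add, hx, hy]

/-- The universal element of the kernel of a map of finite free modules. -/
structure Univ (φ₀ : P ⟶ P') where
  /-- rank -/
  n : ℕ
  /-- basis -/
  b : Module.Basis (Fin n) A P
  /-- the algebra -/
  R : Alg A
  /-- coordinates -/
  X : Fin n → R
  /-- scaling -/
  σ : R ⟶ algOf A (R : Type u)[X]
  mem : um φ₀ R (∑ i, X i ⊗ₜ[A] b i) = 0
  surj : ∀ (B : Alg A) (x : UV P B), um φ₀ B x = 0 →
    ∃ f : R ⟶ B, ut P f (∑ i, X i ⊗ₜ[A] b i) = x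
  uniq : ∀ {B : Alg A} (f g : R ⟶ B),
    ut P f (∑ i, X i ⊗ₜ[A] b i) = ut P g (∑ i, X i ⊗ₜ[A] b i) → f = g
  hσ : ∀ i, σ.hom (X i) = Polynomial.X * Polynomial.C (X i)
  span : ∀ r : R, (σ.hom r).coeff 1 ∈ Submodule.span A (Set.range X)

namespace Univ

variable {φ₀ : P ⟶ P'} (U : Univ φ₀)

/-- The universal element. -/
def ξ : UV P U.R := ∑ i, U.X i ⊗ₜ[A] U.b i

theorem ut_σ : ut P U.σ U.ξ = (Polynomial.X : (U.R : Type u)[X]) • ut P (cst U.R) U.ξ := by
  rw [ξ, map_sum, map_sum, Finset.smul_sum]
  refine Finset.sum_congr rfl fun i _ => ?_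
  rw [LinearMap.rTensor_tmul, LinearMap.rTensor_tmul, TensorProduct.smul_tmul']
  exact congrArg (· ⊗ₜ[A] U.b i) (U.hσ i)

/-- A homogeneous element comes from a linear map. -/
theorem exists_linear (η : UV M U.R)
    (h : ut M U.σ η = (Polynomial.X : (U.R : Type u)[X]) • ut M (cst U.R) η) :
    ∃ g : P ⟶ M, um g U.R U.ξ = η := by
  have key : ∀ z : UV M U.R, ∃ m : Fin U.n → M,
      ((c1 U.R).comp U.σ.hom.toLinearMap).rTensor M z = ∑ i, U.X i ⊗ₜ[A] m i := by
    intro z
    induction z using TensorProduct.induction_on with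
    | zero => exact ⟨0, by simp⟩
    | tmul r x =>
      obtain ⟨c, hc⟩ := (Submodule.mem_span_range_iff_exists_fun A).1 (U.span r)
      refine ⟨fun i => c i • x, ?_⟩
      rw [LinearMap.rTensor_tmul]
      show (U.σ.hom r).coeff 1 ⊗ₜ[A] x = _
      rw [← hc, TensorProduct.sum_tmul]
      exact Finset.sum_congr rfl fun i _ => TensorProduct.smul_tmul _ _ _
    | add x y hx hy =>
      obtain ⟨m, hm⟩ := hx
      obtain ⟨m', hm'⟩ := hy
      exact ⟨m + m', by rw [map_add, hm, hm', ← Finset.sum_add_distrib]; simp [TensorProduct.tmul_add]⟩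
  obtain ⟨m, hm⟩ := key η
  rw [LinearMap.rTensor_comp_apply] at hm
  change (c1 U.R).rTensor M (ut M U.σ η) = _ at hm
  rw [h, c1_smul_cst] at hm
  refine ⟨ModuleCat.ofHom (U.b.constr A m), ?_⟩
  rw [ξ, map_sum, hm]
  refine Finset.sum_congr rfl fun i _ => ?_
  rw [LinearMap.baseChange_tmul]
  exact congrArg (U.X i ⊗ₜ[A] ·) (U.b.constr_basis A m i)

end Univ

theorem nonempty_univ (φ₀ : P ⟶ P') [Module.Finite A P] [Module.Free A P] [Module.Finite A P']
    [Module.Free A P'] : Nonempty (Univ φ₀) := by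
  classical
  let n := Fintype.card (Module.Free.ChooseBasisIndex A P)
  let b : Module.Basis (Fin n) A P :=
    (Module.Free.chooseBasis A P).reindex (Fintype.equivFin _)
  let n' := Fintype.card (Module.Free.ChooseBasisIndex A P')
  let b' : Module.Basis (Fin n') A P' :=
    (Module.Free.chooseBasis A P').reindex (Fintype.equivFin _)
  let a : Fin n → Fin n' → A := fun i j => b'.repr (φ₀.hom (b i)) j
  let ρ : Fin n' → MvPolynomial (Fin n) A := fun j => ∑ i, a i j • MvPolynomial.X i
  let I : Ideal (MvPolynomial (Fin n) A) := Ideal.span (Set.range ρ)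
  let R : Alg A := algOf A (MvPolynomial (Fin n) A ⧸ I)
  let q : MvPolynomial (Fin n) A →ₐ[A] MvPolynomial (Fin n) A ⧸ I := Ideal.Quotient.mkₐ A I
  let X : Fin n → R := fun i => q (MvPolynomial.X i)
  have coord : ∀ (B : Alg A) (x : Fin n → B) (k : Fin n),
      (Algebra.TensorProduct.basis (B : Type u) b).repr (∑ i, x i ⊗ₜ[A] b i) k = x k := by
    intro B x k
    rw [map_sum, Finsupp.finsetSum_apply, Finset.sum_eq_single k]
    · simp
    · intro i _ hi
      simp [hi]
    · simp
  have hmem : ∀ (B : Alg A) (x : Fin n → B),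
      um φ₀ B (∑ i, x i ⊗ₜ[A] b i) = 0 ↔ ∀ j, ∑ i, a i j • x i = 0 := by
    intro B x
    have hc : ∀ j, (Algebra.TensorProduct.basis (B : Type u) b').repr (um φ₀ B (∑ i, x i ⊗ₜ[A] b i)) j =
        ∑ i, a i j • x i := by
      intro j
      rw [map_sum, map_sum, Finsupp.finsetSum_apply]
      refine Finset.sum_congr rfl fun i _ => ?_
      rw [LinearMap.baseChange_tmul, Algebra.TensorProduct.basis_repr_tmul, Finsupp.smul_apply,
        Finsupp.mapRange_apply, smul_eq_mul, Algebra.smul_def, mul_comm]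
    constructor
    · intro h j
      rw [← hc, h, map_zero, Finsupp.zero_apply]
    · intro h
      exact (Algebra.TensorProduct.basis (B : Type u) b').repr.map_eq_zero_iff.1
        (Finsupp.ext fun j => (hc j).trans (h j))
  have hρ : ∀ j, ∑ i, a i j • X i = 0 := by
    intro j
    have : q (ρ j) = 0 := Ideal.Quotient.eq_zero_iff_mem.2 (Ideal.subset_span ⟨j, rfl⟩)
    simpa [ρ, X, map_sum, map_smul] using this
  have desc : ∀ (C : Type u) [CommRing C] [Algebra A C] (x : Fin n → C),
      (∀ j, ∑ i, a i j • x i = 0) → ∃ f : (MvPolynomial (Fin n) A ⧸ I) →ₐ[A] C, ∀ i, f (X i) = x i := by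
    intro C _ _ x hx
    refine ⟨Ideal.Quotient.liftₐ I (MvPolynomial.aeval x) ?_, fun i => ?_⟩
    · intro p hp
      refine (Ideal.span_le (I := RingHom.ker (MvPolynomial.aeval x : MvPolynomial (Fin n) A →ₐ[A] C))).2 ?_ hp
      rintro _ ⟨j, rfl⟩
      simpa [ρ, RingHom.mem_ker] using hx j
    · exact MvPolynomial.aeval_X x i
  obtain ⟨σ, hσ⟩ := desc (R : Type u)[X] (fun i => Polynomial.X * Polynomial.C (X i)) (fun j => by
    have := congrArg (fun z => Polynomial.X * Polynomial.C z) (hρ j)
    rw [map_sum, Finset.mul_sum, map_zero, mul_zero] at this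
    exact (Finset.sum_congr rfl fun i _ => by rw [← Polynomial.smul_C, mul_smul_comm]).trans this)
  refine ⟨{ n := n, b := b, R := R, X := X, σ := CommAlgCat.ofHom σ, mem := (hmem R X).2 hρ,
            surj := fun B x hx => ?_, uniq := fun {B} f g h => ?_, hσ := hσ, span := fun r => ?_ }⟩
  · let c : Fin n → B := fun i => (Algebra.TensorProduct.basis (B : Type u) b).repr x i
    have hxc : ∑ i, c i ⊗ₜ[A] b i = x :=
      (Algebra.TensorProduct.basis (B : Type u) b).repr.injective (Finsupp.ext fun k => coord B c k)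
    obtain ⟨f, hf⟩ := desc B c ((hmem B c).1 (hxc.symm ▸ hx))
    refine ⟨CommAlgCat.ofHom f, ?_⟩
    rw [map_sum, ← hxc]
    exact Finset.sum_congr rfl fun i _ => (LinearMap.rTensor_tmul _ _ _ _).trans (congrArg (· ⊗ₜ[A] b i) (hf i))
  · simp only [map_sum, LinearMap.rTensor_tmul] at h
    refine CommAlgCat.hom_ext (Ideal.Quotient.algHom_ext A (MvPolynomial.algHom_ext fun i => ?_))
    have := congrArg (fun z => (Algebra.TensorProduct.basis (B : Type u) b).repr z i) h
    simp only [coord] at this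
    exact this
  · obtain ⟨p, rfl⟩ := Ideal.Quotient.mk_surjective r
    suffices h : (∃ c : A, (σ (q p)).coeff 0 = algebraMap A R c) ∧
        (σ (q p)).coeff 1 ∈ Submodule.span A (Set.range X) from h.2
    induction p using MvPolynomial.induction_on with
    | C c =>
      have : σ (q (MvPolynomial.C c)) = Polynomial.C (algebraMap A R c) := by
        rw [← MvPolynomial.algebraMap_eq, AlgHom.commutes, AlgHom.commutes]
        rfl
      exact ⟨⟨c, by rw [this, Polynomial.coeff_C_zero]⟩,
        by rw [this, Polynomial.coeff_C_of_ne_zero one_ne_zero]; exact zero_mem _⟩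
    | add p p' hp hp' =>
      obtain ⟨⟨c, hc⟩, hp⟩ := hp
      obtain ⟨⟨c', hc'⟩, hp'⟩ := hp'
      exact ⟨⟨c + c', by rw [map_add, map_add, Polynomial.coeff_add, hc, hc', map_add]⟩,
        by rw [map_add, map_add, Polynomial.coeff_add]; exact add_mem hp hp'⟩
    | mul_X p i hp =>
      obtain ⟨⟨c, hc⟩, hp⟩ := hp
      have e : σ (q (p * MvPolynomial.X i)) = Polynomial.X * (σ (q p) * Polynomial.C (X i)) := by
        rw [map_mul, map_mul, hσ i]
        ring
      refine ⟨⟨0, by rw [e, Polynomial.coeff_X_mul_zero, map_zero]⟩, ?_⟩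
      rw [e, Polynomial.coeff_X_mul, Polynomial.coeff_mul_C, hc, ← Algebra.smul_def]
      exact Submodule.smul_mem _ _ (Submodule.subset_span ⟨i, rfl⟩)

/-- A map from a linearly adequate functor to an underlined module extends to the ambient module. -/
theorem exists_extend {F : MVF A} (e : Emb F) [Module.Finite A e.M] [Module.Free A e.M]
    [Module.Finite A e.N] [Module.Free A e.N] (φ : F ⟶ (underline A).obj M) :
    ∃ g : e.M ⟶ M, e.j ≫ (underline A).map g = φ := by
  obtain ⟨U⟩ := nonempty_univ e.ψ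
  obtain ⟨x₀, hx₀⟩ := e.exists_of_mem U.R U.ξ U.mem
  let η : UV M U.R := apo φ U.R x₀
  have hη : ut M U.σ η = (Polynomial.X : (U.R : Type u)[X]) • ut M (cst U.R) η := by
    have h1 : tr F U.σ x₀ = (Polynomial.X : (U.R : Type u)[X]) • tr F (cst U.R) x₀ := by
      apply e.inj
      rw [map_smul, apo_tr, apo_tr, hx₀]
      exact U.ut_σ
    exact ((apo_tr φ U.σ x₀).symm.trans ((congrArg _ h1).trans (map_smul _ _ _))).trans
      (congrArg _ (apo_tr φ (cst U.R) x₀))
  obtain ⟨g, hg⟩ := U.exists_linear η hη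
  refine ⟨g, hom_ext' fun B x => ?_⟩
  obtain ⟨f, hf⟩ := U.surj B (apo e.j B x) (e.mem B x)
  have hx : x = tr F f x₀ := e.inj B (by rw [apo_tr, hx₀]; exact hf.symm)
  calc um g B (apo e.j B x) = um g B (ut e.M f U.ξ) := congrArg _ hf.symm
    _ = ut M f (um g U.R U.ξ) := um_ut g f _
    _ = ut M f η := congrArg _ hg
    _ = apo φ B (tr F f x₀) := (apo_tr φ f x₀).symm
    _ = apo φ B x := congrArg _ hx.symm

end

end Groth.L23.Adq
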