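import Groth.Agent.L23.Adeq.Amitsur
import Groth.Agent.L23.Adeq.Universal
import Mathlib.RingTheory.Flat.Stability
import Mathlib.LinearAlgebra.TensorProduct.Pi
import Mathlib.Algebra.Algebra.Pi

/-!
# Decompositions and degree one descent for adequate functors
-/

universe u

open CategoryTheory Opposite TensorProduct

set_option backward.isDefEq.respectTransparency.types false
set_option linter.style.haveILetI false

namespace Groth.L23.Adq

open _root_.Adeq

noncomputable section

variable {R : Type u} [CommRing R]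

/-- A decomposition of an algebra as a finite product. -/
structure Decomp (E : Alg R) {ι : Type u} [Fintype ι] (E' : ι → Alg R) where
  /-- projections -/
  p : ∀ i, E ⟶ E' i
  /-- linear sections -/
  σ : ∀ i, (E' i : Type u) →ₗ[R] E
  self : ∀ i x, (p i).hom (σ i x) = x
  ne : ∀ i j x, i ≠ j → (p j).hom (σ i x) = 0
  total : ∀ x, ∑ i, σ i ((p i).hom x) = x

namespace Decomp

variable {E : Alg R} {ι : Type u} [Fintype ι] {E' : ι → Alg R} (D : Decomp E E') (M : ModuleCat.{u + 1} R)

theorem ut_total (z : UV M E) : ∑ i, (D.σ i).rTensor M (ut M (D.p i) z) = z := by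
  induction z using TensorProduct.induction_on with
  | zero => simp
  | tmul x m =>
    simp only [LinearMap.rTensor_tmul]
    rw [← TensorProduct.sum_tmul]
    exact congrArg (· ⊗ₜ[R] m) (D.total x)
  | add x y hx hy => simp only [map_add, Finset.sum_add_distrib, hx, hy]

theorem ut_self (i : ι) (z : UV M (E' i)) : ut M (D.p i) ((D.σ i).rTensor M z) = z := by
  induction z using TensorProduct.induction_on with
  | zero => simp
  | tmul x m => exact congrArg (· ⊗ₜ[R] m) (D.self i x)
  | add x y hx hy => rw [map_add, map_add, hx, hy]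

theorem ut_ne (i j : ι) (h : i ≠ j) (z : UV M (E' i)) : ut M (D.p j) ((D.σ i).rTensor M z) = 0 := by
  induction z using TensorProduct.induction_on with
  | zero => simp
  | tmul x m => exact (congrArg (· ⊗ₜ[R] m) (D.ne i j x h)).trans (TensorProduct.zero_tmul _ _)
  | add x y hx hy => rw [map_add, map_add, hx, hy, add_zero]

theorem um_σ {N : ModuleCat.{u + 1} R} (g : M ⟶ N) (i : ι) (z : UV M (E' i)) :
    um g E ((D.σ i).rTensor M z) = (D.σ i).rTensor N (um g (E' i) z) := by
  induction z using TensorProduct.induction_on with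
  | zero => simp
  | tmul x m => simp
  | add x y hx hy => rw [map_add, map_add, map_add, map_add, hx, hy]

variable {F : MVF R}

theorem ext (e : Emb F) (x y : F.obj (pt E)) (h : ∀ i, tr F (D.p i) x = tr F (D.p i) y) : x = y := by
  refine e.inj E ?_
  rw [← D.ut_total e.M (apo e.j E x), ← D.ut_total e.M (apo e.j E y)]
  exact Finset.sum_congr rfl fun i _ => by rw [← apo_tr, ← apo_tr, h i]

theorem exists_glue (e : Emb F) (x : ∀ i, F.obj (pt (E' i))) : ∃ y, ∀ i, tr F (D.p i) y = x i := by
  classical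
  obtain ⟨y, hy⟩ := e.exists_of_mem E (∑ i, (D.σ i).rTensor e.M (apo e.j (E' i) (x i))) (by
    rw [map_sum]
    exact Finset.sum_eq_zero fun i _ => by rw [D.um_σ, e.mem, map_zero])
  refine ⟨y, fun j => e.inj (E' j) ?_⟩
  rw [apo_tr, hy, map_sum, Finset.sum_eq_single j (fun i _ h => D.ut_ne e.M i j h _)
    (fun h => absurd (Finset.mem_univ j) h), D.ut_self]

end Decomp

section Product

variable {κ : Type u} [Fintype κ] [DecidableEq κ] (C : κ → Type u) [∀ k, CommRing (C k)] [∀ k, Algebra R (C k)]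

/-- The decomposition of a finite product. -/
def piDecomp : Decomp (algOf R (∀ k, C k)) (fun k => algOf R (C k)) where
  p k := CommAlgCat.ofHom (Pi.evalAlgHom R C k)
  σ k := LinearMap.single R C k
  self k x := Pi.single_eq_same k x
  ne i j x h := Pi.single_eq_of_ne (Ne.symm h) x
  total x := Finset.univ_sum_single x

omit [Fintype κ] [DecidableEq κ] in
/-- The decomposition of a tensor product. -/
def Decomp.tensor {E E₀ : Alg R} {ι ι₀ : Type u} [Fintype ι] [Fintype ι₀] {E' : ι → Alg R} {E₀' : ι₀ → Alg R}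
    (D : Decomp E E') (D₀ : Decomp E₀ E₀') :
    Decomp (algOf R ((E : Type u) ⊗[R] (E₀ : Type u)))
      (fun p : ι × ι₀ => algOf R ((E' p.1 : Type u) ⊗[R] (E₀' p.2 : Type u))) where
  p p := CommAlgCat.ofHom (Algebra.TensorProduct.map (D.p p.1).hom (D₀.p p.2).hom)
  σ p := TensorProduct.map (D.σ p.1) (D₀.σ p.2)
  self p x := by
    induction x using TensorProduct.induction_on with
    | zero => simp
    | tmul a b =>
      show (D.p p.1).hom (D.σ p.1 a) ⊗ₜ[R] (D₀.p p.2).hom (D₀.σ p.2 b) = a ⊗ₜ[R] b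
      rw [D.self, D₀.self]
    | add x y hx hy => rw [map_add, map_add, hx, hy]
  ne i j x h := by
    induction x using TensorProduct.induction_on with
    | zero => simp
    | tmul a b =>
      show (D.p j.1).hom (D.σ i.1 a) ⊗ₜ[R] (D₀.p j.2).hom (D₀.σ i.2 b) = 0
      by_cases h1 : i.1 = j.1
      · have h2 : i.2 ≠ j.2 := fun h2 => h (Prod.ext h1 h2)
        rw [D₀.ne _ _ _ h2, TensorProduct.tmul_zero]
      · rw [D.ne _ _ _ h1, TensorProduct.zero_tmul]
    | add x y hx hy => rw [map_add, map_add, hx, hy, add_zero]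
  total x := by
    induction x using TensorProduct.induction_on with
    | zero => simp
    | tmul a b =>
      show ∑ p : ι × ι₀, D.σ p.1 ((D.p p.1).hom a) ⊗ₜ[R] D₀.σ p.2 ((D₀.p p.2).hom b) = a ⊗ₜ[R] b
      rw [Fintype.sum_prod_type]
      conv_rhs => rw [← D.total a, ← D₀.total b, TensorProduct.sum_tmul]
      exact Finset.sum_congr rfl fun i _ => by rw [TensorProduct.tmul_sum]
    | add x y hx hy => simp only [map_add, Finset.sum_add_distrib, hx, hy]

/-- The decomposition of the square of a finite product. -/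
abbrev piDecomp₂ := (piDecomp (R := R) C).tensor (piDecomp (R := R) C)

/-- The decomposition of the cube of a finite product. -/
abbrev piDecomp₃ := (piDecomp (R := R) C).tensor (piDecomp₂ (R := R) C)

theorem faithfullyFlat_pi (hflat : ∀ k, Module.Flat R (C k))
    (hs : ∀ x : PrimeSpectrum R, ∃ k y, PrimeSpectrum.comap (algebraMap R (C k)) y = x) :
    Module.FaithfullyFlat R (∀ k, C k) := by
  haveI : Module.Flat R (∀ k, C k) :=
    Module.Flat.of_linearEquiv (DirectSum.linearEquivFunOnFintype R κ C).symm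
  refine Module.FaithfullyFlat.of_comap_surjective fun x => ?_
  obtain ⟨k, y, hy⟩ := hs x
  exact ⟨PrimeSpectrum.comap (Pi.evalRingHom C k) y, hy⟩

end Product

section Cocycle

variable {B : Type u} [CommRing B] [Algebra R B]

/-- The first coface. -/
abbrev c01 : algOf R (B ⊗[R] B) ⟶ algOf R (B ⊗[R] (B ⊗[R] B)) :=
  CommAlgCat.ofHom (Algebra.TensorProduct.map (AlgHom.id R B)
    (Algebra.TensorProduct.includeLeft : B →ₐ[R] B ⊗[R] B))

/-- The second coface. -/
abbrev c02 : algOf R (B ⊗[R] B) ⟶ algOf R (B ⊗[R] (B ⊗[R] B)) :=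
  CommAlgCat.ofHom (Algebra.TensorProduct.map (AlgHom.id R B)
    (Algebra.TensorProduct.includeRight : B →ₐ[R] B ⊗[R] B))

/-- The third coface. -/
abbrev c12 : algOf R (B ⊗[R] B) ⟶ algOf R (B ⊗[R] (B ⊗[R] B)) :=
  CommAlgCat.ofHom (Algebra.TensorProduct.includeRight : B ⊗[R] B →ₐ[R] B ⊗[R] (B ⊗[R] B))

variable (R B) in
/-- The second differential. -/
def coDiff₁ : B ⊗[R] B →ₗ[R] B ⊗[R] (B ⊗[R] B) :=
  (c01 (R := R) (B := B)).hom.toLinearMap - (c02 (R := R) (B := B)).hom.toLinearMap +
    (c12 (R := R) (B := B)).hom.toLinearMap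

theorem coDiff₁_tmul (c e : B) : coDiff₁ R B (c ⊗ₜ[R] e) =
    c ⊗ₜ[R] (e ⊗ₜ[R] (1 : B)) - c ⊗ₜ[R] ((1 : B) ⊗ₜ[R] e) + (1 : B) ⊗ₜ[R] (c ⊗ₜ[R] e) := rfl

theorem amitsur_exact₁ [Module.FaithfullyFlat R B] (M : Type (u + 1)) [AddCommGroup M] [Module R M]
    (z : (B ⊗[R] B) ⊗[R] M) (hz : (coDiff₁ R B).rTensor M z = 0) :
    ∃ w, (coDiff R B).rTensor M w = z := by
  have hd : ((coDiff₁ R B).rTensor M).comp ((coDiff R B).rTensor M) = 0 := by
    rw [← LinearMap.rTensor_comp]
    have : (coDiff₁ R B).comp (coDiff R B) = 0 := LinearMap.ext fun c => by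
      show coDiff₁ R B (c ⊗ₜ[R] (1 : B) - (1 : B) ⊗ₜ[R] c) = 0
      rw [map_sub, coDiff₁_tmul, coDiff₁_tmul]
      abel
    rw [this, LinearMap.rTensor_zero]
  have hex : Function.Exact ((coDiff R B).rTensor M) ((coDiff₁ R B).rTensor M) := by
    refine (Module.FaithfullyFlat.lTensor_exact_iff_exact R B (N1 := B ⊗[R] M) (N2 := (B ⊗[R] B) ⊗[R] M)
      (N3 := (B ⊗[R] (B ⊗[R] B)) ⊗[R] M) (l12 := (coDiff R B).rTensor M)
      (l23 := (coDiff₁ R B).rTensor M)).1 ?_
    let μ : B ⊗[R] ((B ⊗[R] (B ⊗[R] B)) ⊗[R] M) →ₗ[R] B ⊗[R] ((B ⊗[R] B) ⊗[R] M) :=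
      (LinearMap.rTensor ((B ⊗[R] B) ⊗[R] M) (LinearMap.mul' R B)).comp
        ((TensorProduct.assoc R B B ((B ⊗[R] B) ⊗[R] M)).symm.toLinearMap.comp
          ((TensorProduct.assoc R B (B ⊗[R] B) M).toLinearMap.lTensor B))
    let κ : B ⊗[R] ((B ⊗[R] B) ⊗[R] M) →ₗ[R] B ⊗[R] (B ⊗[R] M) :=
      (LinearMap.rTensor (B ⊗[R] M) (LinearMap.mul' R B)).comp
        ((TensorProduct.assoc R B B (B ⊗[R] M)).symm.toLinearMap.comp
          ((TensorProduct.assoc R B B M).toLinearMap.lTensor B))
    have key : ∀ z, μ (((coDiff₁ R B).rTensor M).lTensor B z) =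
        ((coDiff R B).rTensor M).lTensor B (κ z) + z := by
      intro z
      induction z using TensorProduct.induction_on with
      | zero => simp
      | tmul b y =>
        induction y using TensorProduct.induction_on with
        | zero => simp
        | tmul x m =>
          induction x using TensorProduct.induction_on with
          | zero => simp
          | tmul c e =>
            simp [μ, κ, coDiff_apply, coDiff₁_tmul, TensorProduct.sub_tmul, TensorProduct.tmul_sub,
              TensorProduct.add_tmul, TensorProduct.tmul_add]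
          | add x x' hx hx' =>
            rw [TensorProduct.add_tmul, TensorProduct.tmul_add, map_add, map_add, map_add, map_add, hx, hx']
            abel
        | add y y' hy hy' =>
          rw [TensorProduct.tmul_add, map_add, map_add, map_add, map_add, hy, hy']
          abel
      | add y y' hy hy' =>
        rw [map_add, map_add, map_add, map_add, hy, hy']
        abel
    intro z
    refine ⟨fun hz => ⟨- κ z, ?_⟩, ?_⟩
    · have h := key z
      rw [hz, map_zero] at h
      rw [map_neg]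
      exact neg_eq_of_add_eq_zero_right h.symm
    · rintro ⟨w, rfl⟩
      rw [← LinearMap.lTensor_comp_apply, hd, LinearMap.lTensor_zero, LinearMap.zero_apply]
  exact (hex z).1 hz

theorem exists_cobound [Module.FaithfullyFlat R B] {F : MVF R} (e : Emb F) (δ : F.obj (pt (algOf R (B ⊗[R] B))))
    (hδ : tr F c01 δ - tr F c02 δ + tr F c12 δ = 0) :
    ∃ w : F.obj (pt (algOf R B)), tr F coL w - tr F coR w = δ := by
  have h0 : (coDiff₁ R B).rTensor e.M (apo e.j (algOf R (B ⊗[R] B)) δ) = 0 := by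
    rw [coDiff₁, LinearMap.rTensor_add, LinearMap.rTensor_sub]
    have h := congrArg (apo e.j (algOf R (B ⊗[R] (B ⊗[R] B)))) hδ
    rw [map_add, map_sub, map_zero, apo_tr, apo_tr, apo_tr] at h
    exact h
  obtain ⟨w₀, hw₀⟩ := amitsur_exact₁ e.M _ h0
  have hψ : (coDiff R B).rTensor e.N (um e.ψ (algOf R B) w₀) = 0 := by
    rw [ut_coDiff, ← um_ut, ← um_ut, ← map_sub, ← ut_coDiff, hw₀, e.mem]
  obtain ⟨n, hn⟩ := (amitsur_exact R B e.N _).1 hψ
  let n' : UV e.N (algOf R R) := (TensorProduct.lid R e.N).symm n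
  have hn' : ut e.N toB n' = um e.ψ (algOf R B) w₀ := by rw [ut_toB, LinearEquiv.apply_symm_apply, hn]
  have hinj : ∀ M : ModuleCat.{u + 1} R, Function.Injective (ut M (toB (B := B))) := fun M z z' h => by
    rw [ut_toB, ut_toB] at h
    exact (TensorProduct.lid R M).injective (Module.FaithfullyFlat.tensorProduct_mk_injective _ h)
  have hc : um (cokπ e.ψ) (algOf R R) n' = 0 := hinj _ (by
    rw [map_zero, ← um_ut, hn', um_cokπ_eq_zero]
    exact ⟨_, rfl⟩)
  obtain ⟨m, hm⟩ := (um_cokπ_eq_zero e.ψ _ _).1 hc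
  obtain ⟨w, hw⟩ := e.exists_of_mem (algOf R B) (w₀ - ut e.M toB m)
    (by rw [map_sub, um_ut, hm, hn', sub_self])
  refine ⟨w, e.inj _ ?_⟩
  rw [map_sub, apo_tr, apo_tr, hw, ← ut_coDiff, map_sub, hw₀]
  have : (coDiff R B).rTensor e.M (ut e.M toB m) = 0 := by
    rw [ut_toB]
    exact (amitsur_exact R B e.M _).2 ⟨_, rfl⟩
  rw [this, sub_zero]

end Cocycle

end

end Groth.L23.Adq
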