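import Groth.Agent.L23.Adeq.Extension

/-!
# The coreflection onto adequate functors
-/

universe u

open CategoryTheory Limits Opposite TensorProduct

set_option backward.isDefEq.respectTransparency.types false
set_option linter.style.haveILetI false

namespace Groth.L23.Adq

open _root_.Adeq

noncomputable section

variable {A : Type u} [CommRing A]

/-- The standard finite free modules. -/
abbrev stdFree (A : Type u) [CommRing A] (n : ℕ) : ModuleCat.{u + 1} A :=
  ModuleCat.of A (ULift.{u + 1} (Fin n) → A)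

/-- Maps between standard finite free modules. -/
abbrev Shape (A : Type u) [CommRing A] : Type (u + 1) := Σ n : ℕ, Σ m : ℕ, stdFree A n ⟶ stdFree A m

/-- The standard linearly adequate functors. -/
abbrev shapeObj (r : Shape A) : MVF A := kernel ((underline A).map r.2.2)

theorem linAdequate_shapeObj (r : Shape A) : linAdequate A (shapeObj r) :=
  ⟨_, _, r.2.2, inferInstanceAs (Module.Finite A (ULift.{u + 1} (Fin r.1) → A)),
    inferInstanceAs (Module.Free A (ULift.{u + 1} (Fin r.1) → A)),
    inferInstanceAs (Module.Finite A (ULift.{u + 1} (Fin r.2.1) → A)),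
    inferInstanceAs (Module.Free A (ULift.{u + 1} (Fin r.2.1) → A)), ⟨Iso.refl _⟩⟩

theorem exists_shape {L : MVF A} (hL : linAdequate A L) : ∃ r : Shape A, Nonempty (L ≅ shapeObj r) := by
  obtain ⟨P, P', φ₀, hP, hP', hQ, hQ', ⟨k⟩⟩ := hL
  let a : P ≅ stdFree A (Fintype.card (Module.Free.ChooseBasisIndex A P)) :=
    ((Module.Free.chooseBasis A P).reindex ((Fintype.equivFin _).trans Equiv.ulift.symm)).equivFun.toModuleIso
  let b : P' ≅ stdFree A (Fintype.card (Module.Free.ChooseBasisIndex A P')) :=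
    ((Module.Free.chooseBasis A P').reindex ((Fintype.equivFin _).trans Equiv.ulift.symm)).equivFun.toModuleIso
  exact ⟨⟨_, _, a.inv ≫ φ₀ ≫ b.hom⟩, ⟨k ≪≫ kernel.mapIso _ _ ((underline A).mapIso a) ((underline A).mapIso b)
    (by
      show _ = (underline A).map a.hom ≫ (underline A).map (a.inv ≫ φ₀ ≫ b.hom)
      rw [← Functor.map_comp, a.hom_inv_id_assoc, Functor.map_comp]
      rfl)⟩⟩

variable (F : MVF A)

/-- Generators. -/
abbrev Gen : Type (u + 1) := Σ r : Shape A, (shapeObj r ⟶ F)

/-- The sum of all generators. -/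
abbrev genObj : MVF A := ∐ fun i : Gen F => shapeObj i.1

/-- The evaluation map. -/
abbrev genMap : genObj F ⟶ F := Sigma.desc fun i => i.2

/-- Relations. -/
abbrev Rels : Type (u + 1) := Σ r : Shape A, {ψ : shapeObj r ⟶ genObj F // ψ ≫ genMap F = 0}

/-- The relation map. -/
abbrev relMap : (∐ fun i : Rels F => shapeObj i.1) ⟶ genObj F := Sigma.desc fun i => i.2.1

/-- The adequate coreflection of a functor. -/
def coreflObj : MVF A := cokernel (relMap F)

/-- The projection from generators. -/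
def coreflπ : genObj F ⟶ coreflObj F := cokernel.π _

/-- The counit. -/
def coreflε : coreflObj F ⟶ F :=
  cokernel.desc _ (genMap F) (Sigma.hom_ext _ _ fun i => by rw [Sigma.ι_desc_assoc, comp_zero]; exact i.2.2)

theorem coreflπ_ε : coreflπ F ≫ coreflε F = genMap F := cokernel.π_desc _ _ _

theorem adequate_coreflObj : adequate A (coreflObj F) := by
  have h : ∀ r : Shape A, adequate A (shapeObj r) := fun r => adequate_of_emb (kerEmb r.2.2)
  exact adequate_cokernel _ (adequate_sigma _ fun i => h i.1) (adequate_sigma _ fun i => h i.1)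

theorem comp_coreflπ_eq_zero {L : MVF A} (hL : linAdequate A L) (l : L ⟶ genObj F) (h : l ≫ genMap F = 0) :
    l ≫ coreflπ F = 0 := by
  obtain ⟨r, ⟨k⟩⟩ := exists_shape hL
  have hr : (k.inv ≫ l) ≫ genMap F = 0 := by rw [Category.assoc, h, comp_zero]
  have : l = k.hom ≫ Sigma.ι (fun i : Rels F => shapeObj i.1) ⟨r, k.inv ≫ l, hr⟩ ≫ relMap F := by
    rw [Sigma.ι_desc, k.hom_inv_id_assoc]
  rw [this, Category.assoc, Category.assoc, show relMap F ≫ coreflπ F = 0 from cokernel.condition _, comp_zero,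
    comp_zero]

theorem exists_corefl_lift {G : MVF A} (hG : adequate A G) (φ : G ⟶ F) :
    ∃ h : G ⟶ coreflObj F, h ≫ coreflε F = φ := by
  obtain ⟨ι, L, hL, eL, π, -, hπ⟩ := exists_cover hG
  obtain ⟨ι', L', hL', eL', π', -, hπ'⟩ := exists_cover (adequate_kernel π (adequate_of_emb eL) hG)
  choose r k using fun i => exists_shape (hL i)
  let l : (∐ L) ⟶ genObj F := Sigma.desc fun i => (k i).some.hom ≫
    Sigma.ι (fun j : Gen F => shapeObj j.1) ⟨r i, (k i).some.inv ≫ Sigma.ι L i ≫ π ≫ φ⟩
  have hl : l ≫ genMap F = π ≫ φ := Sigma.hom_ext _ _ fun i => by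
    rw [Sigma.ι_desc_assoc, Category.assoc, Sigma.ι_desc, Iso.hom_inv_id_assoc]
  haveI : Epi π := (epi_iff' π).2 hπ
  haveI : Epi π' := (epi_iff' π').2 hπ'
  have h0 : kernel.ι π ≫ l ≫ coreflπ F = 0 := by
    rw [← cancel_epi π', comp_zero]
    refine Sigma.hom_ext _ _ fun j => ?_
    rw [comp_zero, ← Category.assoc, ← Category.assoc, ← Category.assoc]
    refine comp_coreflπ_eq_zero F (hL' j) _ ?_
    rw [Category.assoc, Category.assoc, hl, kernel.condition_assoc, zero_comp, comp_zero]
  refine ⟨Abelian.epiDesc π (l ≫ coreflπ F) h0, ?_⟩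
  rw [← cancel_epi π, Abelian.comp_epiDesc_assoc, Category.assoc, coreflπ_ε, hl]

theorem corefl_unique {G : MVF A} (hG : adequate A G) (h : G ⟶ coreflObj F) (h0 : h ≫ coreflε F = 0) : h = 0 := by
  obtain ⟨ι, L, hL, eL, π, -, hπ⟩ := exists_cover hG
  haveI : Epi π := (epi_iff' π).2 hπ
  rw [← cancel_epi π, comp_zero]
  refine Sigma.hom_ext _ _ fun i => ?_
  rw [comp_zero]
  have hK : adequate A (kernel (coreflπ F)) := adequate_kernel _
    (adequate_sigma _ fun i => adequate_of_emb (kerEmb i.1.2.2)) (adequate_coreflObj F)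
  haveI : Epi (coreflπ F) := inferInstanceAs (Epi (cokernel.π (relMap F)))
  obtain ⟨l, hl⟩ := exists_lift_linAdequate (nonempty_emb hK).some (kernel.ι (coreflπ F)) (coreflπ F)
    (injective_ap_kernel_ι _) ((epi_iff' _).1 inferInstance) (kernel.condition _)
    (fun B x hx => exists_kernel _ B x hx) (hL i) (Sigma.ι L i ≫ π ≫ h)
  have hz : l ≫ genMap F = 0 := by
    rw [← coreflπ_ε, reassoc_of% hl, h0, comp_zero, comp_zero]
  rw [← hl, comp_coreflπ_eq_zero F (hL i) l hz]

theorem corefl_bijective {G : MVF A} (hG : adequate A G) :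
    Function.Bijective fun h : G ⟶ coreflObj F => h ≫ coreflε F :=
  ⟨fun h h' e => sub_eq_zero.1 (corefl_unique F hG (h - h') (by
      rw [Preadditive.sub_comp, sub_eq_zero]
      exact e)),
    exists_corefl_lift F hG⟩

theorem isLeftAdjoint_ι (A : Type u) [CommRing A] : (adequate A).ι.IsLeftAdjoint := by
  let Gobj : MVF A → Adequate A := fun F => ⟨coreflObj F, adequate_coreflObj F⟩
  let e : ∀ (G : Adequate A) (F : MVF A), ((adequate A).ι.obj G ⟶ F) ≃ (G ⟶ Gobj F) := fun G F =>
    ((InducedCategory.homEquiv (F := ObjectProperty.FullSubcategory.obj) (X := G) (Y := Gobj F)).trans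
      (Equiv.ofBijective _ (corefl_bijective F G.property))).symm
  refine ⟨_, ⟨Adjunction.adjunctionOfEquivRight (G_obj := Gobj) e fun G' G F f g => ?_⟩⟩
  apply (e G' F).symm.injective
  rw [Equiv.symm_apply_apply]
  show (adequate A).ι.map f ≫ g = ((adequate A).ι.map (f ≫ e G F g)) ≫ coreflε F
  rw [Functor.map_comp, Category.assoc]
  exact congrArg _ ((e G F).symm_apply_apply g).symm

end

end Groth.L23.Adq
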