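import Groth.Agent.L23.Adeq.Split
import Mathlib.Algebra.DirectSum.Module
import Mathlib.LinearAlgebra.Finsupp.LinearCombination
import Mathlib.Algebra.Category.ModuleCat.Colimits
import Mathlib.CategoryTheory.Limits.Shapes.Products
import Mathlib.LinearAlgebra.StdBasis
import Mathlib.LinearAlgebra.TensorProduct.Finiteness
import Mathlib.Algebra.Category.Grp.Colimits

/-!
# Covers of adequate functors; kernels, cokernels and sums
-/

universe u

open CategoryTheory Limits Opposite TensorProduct

set_option backward.isDefEq.respectTransparency.types false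
set_option linter.style.haveILetI false

namespace Groth.L23.Adq

open _root_.Adeq

noncomputable section

variable {A : Type u} [CommRing A]

instance evalPC (B : Alg A) (ι : Type (u + 1)) :
    PreservesColimitsOfShape (Discrete ι) (PresheafOfModules.evaluation.{u + 1} (ringOf A) (pt B)) :=
  PresheafOfModules.evaluation_preservesColimitsOfShape _ _ _

section Coproduct

variable {ι : Type (u + 1)} (F : ι → MVF A)

/-- Elements of a coproduct are finite sums of elements of the summands. -/
theorem coproduct_induction (B : Alg A) {motive : (∐ F).obj (pt B) → Prop}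
    (incl : ∀ i x, motive (ap (Sigma.ι F i) B x)) (zero : motive 0)
    (add : ∀ x y, motive x → motive y → motive (x + y)) (z : (∐ F).obj (pt B)) : motive z := by
  have hc := isColimitOfPreserves (PresheafOfModules.evaluation.{u + 1} (ringOf A) (pt B))
    (coproductIsCoproduct F)
  let S : Submodule B ((∐ F).obj (pt B)) := ⨆ i, LinearMap.range (ap (Sigma.ι F i) B)
  have hz : z ∈ S := by
    have h0 : ModuleCat.ofHom S.mkQ = (0 : (∐ F).obj (pt B) ⟶ ModuleCat.of B _) := by
      refine hc.hom_ext fun ⟨i⟩ => ?_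
      ext x
      exact (Submodule.Quotient.mk_eq_zero _).2 ((le_iSup (fun i => LinearMap.range (ap (Sigma.ι F i) B)) i) ⟨x, rfl⟩)
    exact (Submodule.Quotient.mk_eq_zero S).1 (ConcreteCategory.congr_hom h0 z)
  refine Submodule.iSup_induction (motive := motive) _ hz ?_ zero add
  rintro i _ ⟨x, rfl⟩
  exact incl i x

open scoped Classical in
/-- The projection of a coproduct onto a summand. -/
def proj (i : ι) : (∐ F) ⟶ F i :=
  Sigma.desc fun k => if h : k = i then eqToHom (by rw [h]) else 0

theorem proj_self (i : ι) (B : Alg A) (x : (F i).obj (pt B)) : ap (proj F i) B (ap (Sigma.ι F i) B x) = x := by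
  have h : Sigma.ι F i ≫ proj F i = 𝟙 _ := by
    rw [proj, Sigma.ι_desc, dif_pos rfl, eqToHom_refl]
  exact congrArg (fun (k : F i ⟶ F i) => ap k B x) h

theorem proj_ne {i k : ι} (h : k ≠ i) (B : Alg A) (x : (F k).obj (pt B)) :
    ap (proj F i) B (ap (Sigma.ι F k) B x) = 0 := by
  have h : Sigma.ι F k ≫ proj F i = 0 := by
    rw [proj, Sigma.ι_desc, dif_neg h]
  exact congrArg (fun (t : F k ⟶ F i) => ap t B x) h

theorem exists_sum_proj (B : Alg A) (z : (∐ F).obj (pt B)) :
    ∃ s : Finset ι, (∀ i ∉ s, ap (proj F i) B z = 0) ∧ z = ∑ i ∈ s, ap (Sigma.ι F i) B (ap (proj F i) B z) := by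
  classical
  induction z using coproduct_induction F B with
  | incl i x =>
    exact ⟨{i}, fun k hk => proj_ne F (fun e => hk (Finset.mem_singleton.2 e.symm)) B x,
      by rw [Finset.sum_singleton, proj_self]⟩
  | zero => exact ⟨∅, fun i _ => map_zero _, by simp⟩
  | add x y hx hy =>
    obtain ⟨s, hs, hxs⟩ := hx
    obtain ⟨t, ht, hyt⟩ := hy
    refine ⟨s ∪ t, fun i hi => ?_, ?_⟩
    · rw [Finset.mem_union, not_or] at hi
      rw [map_add, hs i hi.1, ht i hi.2, add_zero]
    · simp only [map_add, Finset.sum_add_distrib]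
      rw [← Finset.sum_subset (Finset.subset_union_left (s₂ := t)) fun i _ hi => by rw [hs i hi, map_zero],
        ← Finset.sum_subset (Finset.subset_union_right (s₁ := s)) fun i _ hi => by rw [ht i hi, map_zero],
        ← hxs, ← hyt]

theorem eq_zero_of_proj (B : Alg A) (z : (∐ F).obj (pt B)) (h : ∀ i, ap (proj F i) B z = 0) : z = 0 := by
  obtain ⟨s, -, hs⟩ := exists_sum_proj F B z
  rw [hs]
  exact Finset.sum_eq_zero fun i _ => by rw [h i, map_zero]

end Coproduct

section Sum

variable {ι : Type (u + 1)} (M : ι → ModuleCat.{u + 1} A)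

/-- The direct sum of a family of modules. -/
abbrev sumObj : ModuleCat.{u + 1} A := ModuleCat.of A (DirectSum ι fun i => M i)

open scoped Classical in
/-- The inclusion of a summand. -/
abbrev sinc (i : ι) : M i ⟶ sumObj M := ModuleCat.ofHom (DirectSum.lof A ι (fun i => M i) i)

/-- The projection to a summand. -/
abbrev sprj (i : ι) : sumObj M ⟶ M i := ModuleCat.ofHom (DirectSum.component A ι (fun i => M i) i)

open scoped Classical in
theorem um_sprj_sinc (i k : ι) (B : Alg A) (x : UV (M i) B) :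
    um (sprj M k) B (um (sinc M i) B x) = if h : i = k then h ▸ x else 0 := by
  induction x using TensorProduct.induction_on with
  | zero => split_ifs with h; · subst h; simp
            simp
  | tmul b m =>
    split_ifs with h
    · subst h
      simp [um, DirectSum.component.lof_self]
    · simp [um, DirectSum.component.of, h]
  | add x y hx hy =>
    rw [map_add, map_add, hx, hy]
    split_ifs with h
    · subst h; rfl
    · simp

theorem exists_sum_sprj (B : Alg A) (z : UV (sumObj M) B) :
    ∃ s : Finset ι, (∀ i ∉ s, um (sprj M i) B z = 0) ∧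
      z = ∑ i ∈ s, um (sinc M i) B (um (sprj M i) B z) := by
  classical
  induction z using TensorProduct.induction_on with
  | zero => exact ⟨∅, fun i _ => map_zero _, by simp⟩
  | tmul b v =>
    refine ⟨DFinsupp.support v, fun i hi => ?_, ?_⟩
    · rw [LinearMap.baseChange_tmul]
      show b ⊗ₜ[A] (v i) = 0
      rw [DFinsupp.notMem_support_iff.1 hi, TensorProduct.tmul_zero]
    · simp only [LinearMap.baseChange_tmul]
      rw [← TensorProduct.tmul_sum]
      congr 1
      exact (DirectSum.sum_support_of (β := fun i => M i) v).symm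
  | add x y hx hy =>
    obtain ⟨s, hs, hxs⟩ := hx
    obtain ⟨t, ht, hyt⟩ := hy
    refine ⟨s ∪ t, fun i hi => ?_, ?_⟩
    · rw [Finset.mem_union, not_or] at hi
      rw [map_add, hs i hi.1, ht i hi.2, add_zero]
    · simp only [map_add, Finset.sum_add_distrib]
      rw [← Finset.sum_subset (Finset.subset_union_left (s₂ := t)) fun i _ hi => by rw [hs i hi, map_zero],
        ← Finset.sum_subset (Finset.subset_union_right (s₁ := s)) fun i _ hi => by rw [ht i hi, map_zero],
        ← hxs, ← hyt]

variable {N : ι → ModuleCat.{u + 1} A}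

open scoped Classical in
/-- The direct sum of a family of maps. -/
abbrev sumMap (ψ : ∀ i, M i ⟶ N i) : sumObj M ⟶ sumObj N :=
  ModuleCat.ofHom (DirectSum.toModule A ι _ fun i => (ψ i ≫ sinc N i).hom)

open scoped Classical in
theorem sinc_sumMap (ψ : ∀ i, M i ⟶ N i) (i : ι) : sinc M i ≫ sumMap M ψ = ψ i ≫ sinc N i := by
  ext m
  simp

theorem sumMap_sprj (ψ : ∀ i, M i ⟶ N i) (i : ι) : sumMap M ψ ≫ sprj N i = sprj M i ≫ ψ i := by
  classical
  refine ModuleCat.hom_ext (DirectSum.linearMap_ext A fun k => LinearMap.ext fun m => ?_)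
  simp only [ModuleCat.hom_comp, LinearMap.comp_apply, ModuleCat.hom_ofHom, DirectSum.toModule_lof]
  by_cases h : k = i
  · subst h
    simp [DirectSum.component.lof_self]
  · simp [DirectSum.component.of, h]

end Sum

/-- The extension property of an embedding: maps to underlined modules extend. -/
def ExtP {F : MVF A} (e : Emb F) : Prop :=
  ∀ (N : ModuleCat.{u + 1} A) (φ : F ⟶ (underline A).obj N), ∃ g : e.M ⟶ N, e.j ≫ (underline A).map g = φ

section SumEmb

variable {ι : Type (u + 1)} {F : ι → MVF A} (e : ∀ i, Emb (F i))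

/-- The map from a coproduct to the underlined direct sum. -/
def sumJ : (∐ F) ⟶ (underline A).obj (sumObj fun i => (e i).M) :=
  Sigma.desc fun i => (e i).j ≫ (underline A).map (sinc (fun i => (e i).M) i)

theorem sumJ_ι (i : ι) (B : Alg A) (x : (F i).obj (pt B)) :
    apo (sumJ e) B (ap (Sigma.ι F i) B x) = um (sinc (fun i => (e i).M) i) B (apo (e i).j B x) :=
  congrArg (fun (k : F i ⟶ (underline A).obj (sumObj fun i => (e i).M)) => apo k B x) (Sigma.ι_desc _ i)

theorem sumJ_sprj (i : ι) (B : Alg A) (z : (∐ F).obj (pt B)) :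
    um (sprj (fun i => (e i).M) i) B (apo (sumJ e) B z) = apo (e i).j B (ap (proj F i) B z) := by
  classical
  induction z using coproduct_induction F B with
  | incl k x =>
    rw [sumJ_ι, um_sprj_sinc]
    split_ifs with h
    · subst h; rw [proj_self]
    · rw [proj_ne F h, map_zero]
  | zero => simp
  | add x y hx hy => simp only [map_add, hx, hy]

/-- The coproduct of embeddings is an embedding. -/
def sumEmb : Emb (∐ F) where
  M := sumObj fun i => (e i).M
  N := sumObj fun i => (e i).N
  ψ := sumMap _ fun i => (e i).ψ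
  j := sumJ e
  inj B := by
    refine (injective_iff_map_eq_zero (apo (sumJ e) B)).2 fun z hz => ?_
    refine eq_zero_of_proj F B z fun i => (e i).inj B ?_
    rw [← sumJ_sprj, hz, map_zero, map_zero]
  mem B x := by
    induction x using coproduct_induction F B with
    | incl i x => rw [sumJ_ι, ← um_comp, sinc_sumMap, um_comp, (e i).mem, map_zero]
    | zero => simp
    | add x y hx hy => rw [map_add, map_add, hx, hy, add_zero]
  exists_of_mem B m hm := by
    obtain ⟨s, -, hs⟩ := exists_sum_sprj (fun i => (e i).M) B m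
    have hi : ∀ i, ∃ x, apo (e i).j B x = um (sprj (fun i => (e i).M) i) B m := fun i =>
      (e i).exists_of_mem B _ (by rw [← um_comp, ← sumMap_sprj (fun i => (e i).M) (fun i => (e i).ψ), um_comp, hm, map_zero])
    choose x hx using hi
    refine ⟨∑ i ∈ s, ap (Sigma.ι F i) B (x i), ?_⟩
    rw [map_sum]
    exact (Finset.sum_congr rfl fun i _ => by rw [sumJ_ι, hx]).trans hs.symm

theorem extP_sumEmb (h : ∀ i, ExtP (e i)) : ExtP (sumEmb e) := by
  classical
  intro N φ
  choose g hg using fun i => h i N (Sigma.ι F i ≫ φ)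
  refine ⟨ModuleCat.ofHom (DirectSum.toModule A ι N fun i => (g i).hom), Sigma.hom_ext _ _ fun i => ?_⟩
  show Sigma.ι F i ≫ sumJ e ≫ _ = _
  rw [sumJ, Sigma.ι_desc_assoc, Category.assoc, ← hg i]
  refine congrArg ((e i).j ≫ ·) (((underline A).map_comp _ _).symm.trans (congrArg (underline A).map ?_))
  exact ModuleCat.hom_ext (LinearMap.ext fun m => by simp)

end SumEmb

section Piece

variable {F : MVF A} (e : Emb F)

set_option maxHeartbeats 1000000 in
theorem exists_piece (B : Alg A) (x : F.obj (pt B)) :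
    ∃ (P P' : ModuleCat.{u + 1} A) (φ₀ : P ⟶ P') (_ : Module.Finite A P) (_ : Module.Free A P)
      (_ : Module.Finite A P') (_ : Module.Free A P') (g : P ⟶ e.M) (k : P' ⟶ e.N) (p : UV P B),
      φ₀ ≫ k = g ≫ e.ψ ∧ um φ₀ B p = 0 ∧ um g B p = apo e.j B x := by
  classical
  obtain ⟨n, b, m, hm⟩ : ∃ (n : ℕ) (b : Fin n → B) (m : Fin n → e.M), apo e.j B x = ∑ i, b i ⊗ₜ[A] m i := by
    obtain ⟨S, hS⟩ := TensorProduct.exists_finset (apo e.j B x)
    refine ⟨S.card, fun i => (S.equivFin.symm i).1.1, fun i => (S.equivFin.symm i).1.2, hS.trans ?_⟩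
    rw [← Finset.sum_coe_sort]
    exact Fintype.sum_equiv S.equivFin _ _ fun i => by simp
  let tot : (e.N →₀ A) →ₗ[A] e.N := Finsupp.linearCombination A _root_.id
  have hsur : Function.Surjective tot := fun y =>
    ⟨Finsupp.single y (1 : A), (Finsupp.linearCombination_single A (1 : A) y).trans (one_smul A y)⟩
  have he0 : Function.Exact tot.ker.subtype tot := LinearMap.exact_subtype_ker_map tot
  have hex : Function.Exact (tot.ker.subtype.lTensor (B : Type u)) (tot.lTensor (B : Type u)) :=
    lTensor_exact (R := A) (M := ↥tot.ker) (N := e.N →₀ A) (P := e.N) (B : Type u) he0 hsur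
  have hker : tot.lTensor (B : Type u) (∑ i, b i ⊗ₜ[A] Finsupp.single (e.ψ.hom (m i)) 1) = 0 := by
    have := e.mem B x
    rw [hm, map_sum] at this
    rw [map_sum]
    simpa [tot] using this
  obtain ⟨q, hq⟩ := (hex _).1 hker
  obtain ⟨S', hS'⟩ := TensorProduct.exists_finset q
  let T : Finset e.N := (Finset.univ.image fun i => e.ψ.hom (m i)) ∪ S'.biUnion fun r => (r.2.1 : e.N →₀ A).support
  let ι' := ULift.{u + 1} (Fin n ⊕ S')
  let r : (e.N →₀ A) →ₗ[A] (T → A) := LinearMap.pi fun t => Finsupp.lapply (t : e.N)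
  let k : (T → A) →ₗ[A] e.N := Fintype.linearCombination A (fun t : T => (t : e.N))
  have hkr : ∀ f : e.N →₀ A, f.support ⊆ T → k (r f) = tot f := by
    intro f hf
    show ∑ t : T, f (t : e.N) • (t : e.N) = _
    rw [Finset.sum_coe_sort T fun y => f y • y, Finsupp.linearCombination_apply]
    exact (f.sum_of_support_subset hf (fun y a => a • y) fun y _ => zero_smul A y).symm
  let φv : ι' → (T → A) := fun i => i.down.elim (fun i => r (Finsupp.single (e.ψ.hom (m i)) 1))
    fun s => - r (s.1.2.1)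
  let gv : ι' → e.M := fun i => i.down.elim m 0
  let cv : ι' → B := fun i => i.down.elim b fun s => s.1.1
  let P : ModuleCat.{u + 1} A := ModuleCat.of A (ι' → A)
  let P' : ModuleCat.{u + 1} A := ModuleCat.of A (T → A)
  let bas : Module.Basis ι' A (ι' → A) := Pi.basisFun A ι'
  refine ⟨P, P', ModuleCat.ofHom (bas.constr A φv), inferInstanceAs (Module.Finite A (ι' → A)),
    inferInstanceAs (Module.Free A (ι' → A)), inferInstanceAs (Module.Finite A (T → A)),
    inferInstanceAs (Module.Free A (T → A)), ModuleCat.ofHom (bas.constr A gv), ModuleCat.ofHom k,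
    ∑ i, cv i ⊗ₜ[A] bas i, ?_, ?_, ?_⟩
  · refine ModuleCat.hom_ext (bas.ext fun i => ?_)
    show k (bas.constr A φv (bas i)) = e.ψ.hom (bas.constr A gv (bas i))
    rw [Module.Basis.constr_basis, Module.Basis.constr_basis]
    obtain ⟨i | s⟩ := i
    · refine (hkr _ ?_).trans (by simp [tot, gv])
      exact Finsupp.support_single_subset.trans (Finset.singleton_subset_iff.2
        (Finset.mem_union_left _ (Finset.mem_image_of_mem _ (Finset.mem_univ i))))
    · show k (- r s.1.2.1) = e.ψ.hom 0
      rw [map_neg, hkr _ ((Finset.subset_biUnion_of_mem (fun r : B × tot.ker => (r.2.1 : e.N →₀ A).support)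
        s.2).trans Finset.subset_union_right), s.1.2.2, neg_zero, map_zero]
  · rw [map_sum]
    simp only [um, ModuleCat.hom_ofHom, LinearMap.baseChange_tmul, Module.Basis.constr_basis]
    rw [← Equiv.ulift.symm.sum_comp, Fintype.sum_sum_type]
    have h := congrArg (r.lTensor (B : Type u)) hq
    rw [hS', map_sum, map_sum, map_sum, ← Finset.sum_coe_sort] at h
    show ∑ i, b i ⊗ₜ[A] r (Finsupp.single (e.ψ.hom (m i)) 1) + ∑ s : S', s.1.1 ⊗ₜ[A] (- r s.1.2.1) = 0
    simp only [TensorProduct.tmul_neg, Finset.sum_neg_distrib]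
    exact add_neg_eq_zero.2 h.symm
  · rw [map_sum, hm]
    simp only [um, ModuleCat.hom_ofHom, LinearMap.baseChange_tmul, Module.Basis.constr_basis]
    rw [← Equiv.ulift.symm.sum_comp, Fintype.sum_sum_type]
    simp [gv, cv]

end Piece

/-- Every adequate functor is covered by a sum of linearly adequate functors. -/
theorem exists_cover {F : MVF A} (h : adequate A F) :
    ∃ (ι : Type (u + 1)) (L : ι → MVF A), (∀ i, linAdequate A (L i)) ∧
      ∃ (e : Emb (∐ L)) (π : (∐ L) ⟶ F), ExtP e ∧ ∀ B, Function.Surjective (ap π B) := by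
  obtain ⟨e⟩ := nonempty_emb h
  let ι : Type (u + 1) := Σ B : Alg A, F.obj (pt B)
  choose P P' φ₀ hP hP' hQ hQ' g k p hc hp hg using fun i : ι => exists_piece e i.1 i.2
  let L : ι → MVF A := fun i => kernel ((underline A).map (φ₀ i))
  haveI : Mono e.j := (mono_iff' _).2 e.inj
  have hfac : ∀ i, ∃ l : L i ⟶ F, l ≫ e.j = kernel.ι _ ≫ (underline A).map (g i) := fun i =>
    exists_factor_of_forall e.j _ fun B y => e.exists_of_mem B _ (by
      show um e.ψ B (um (g i) B (apo (kernel.ι ((underline A).map (φ₀ i))) B y)) = 0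
      rw [← um_comp, ← hc i, um_comp]
      exact (congrArg _ ((kerEmb (φ₀ i)).mem B y)).trans (map_zero _))
  choose l hl using hfac
  refine ⟨ι, L, fun i => ⟨P i, P' i, φ₀ i, hP i, hP' i, hQ i, hQ' i, ⟨Iso.refl _⟩⟩,
    sumEmb fun i => kerEmb (φ₀ i), Sigma.desc l, extP_sumEmb _ fun i N φ =>
      @exists_extend A _ N _ (kerEmb (φ₀ i)) (hP i) (hP' i) (hQ i) (hQ' i) φ, fun B x => ?_⟩
  obtain ⟨z, hz⟩ := (kerEmb (φ₀ ⟨B, x⟩)).exists_of_mem B (p ⟨B, x⟩) (hp ⟨B, x⟩)
  refine ⟨ap (Sigma.ι L ⟨B, x⟩) B z, e.inj B ?_⟩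
  have h1 : ap (Sigma.desc l) B (ap (Sigma.ι L ⟨B, x⟩) B z) = ap (l ⟨B, x⟩) B z :=
    congrArg (fun (t : L ⟨B, x⟩ ⟶ F) => ap t B z) (Sigma.ι_desc l ⟨B, x⟩)
  rw [h1]
  exact ((congrArg (fun (t : L ⟨B, x⟩ ⟶ (underline A).obj e.M) => apo t B z) (hl ⟨B, x⟩)).trans
    (congrArg (um (g ⟨B, x⟩) B) hz)).trans (hg ⟨B, x⟩)

/-- The cokernel of a map of adequate functors is adequate. -/
theorem adequate_cokernel {F G : MVF A} (φ : F ⟶ G) (hF : adequate A F) (hG : adequate A G) :
    adequate A (cokernel φ) := by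
  obtain ⟨ι, L, -, e, π, he, hπ⟩ := exists_cover hF
  obtain ⟨eG⟩ := nonempty_emb hG
  obtain ⟨g, hg⟩ := he eG.M (π ≫ φ ≫ eG.j)
  have hg' : ∀ B z, um g B (apo e.j B z) = apo eG.j B (ap φ B (ap π B z)) := fun B z =>
    congrArg (fun (t : (∐ L) ⟶ (underline A).obj eG.M) => apo t B z) hg
  refine adequate_of_image eG (pinl eG.M e.N ≫ cokπ (plift g e.ψ)) (cokernel.π φ) fun B y => ?_
  rw [ap_cokernel_π_eq_zero, um_comp, um_cokπ_eq_zero]
  constructor
  · rintro ⟨x, rfl⟩
    obtain ⟨z, rfl⟩ := hπ B x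
    refine ⟨apo e.j B z, um_prod_ext ?_ ?_⟩
    · rw [um_plift_fst, um_pinl_fst, hg']
    · rw [um_plift_snd, um_pinl_snd, e.mem]
  · rintro ⟨q, hq⟩
    have h₁ := congrArg (um (pfst eG.M e.N) B) hq
    have h₂ := congrArg (um (psnd eG.M e.N) B) hq
    rw [um_plift_fst, um_pinl_fst] at h₁
    rw [um_plift_snd, um_pinl_snd] at h₂
    obtain ⟨z, rfl⟩ := e.exists_of_mem B q h₂
    exact ⟨ap π B z, eG.inj B ((hg' B z).symm.trans h₁)⟩

/-- The kernel of a map of adequate functors is adequate. -/
theorem adequate_kernel {F G : MVF A} (φ : F ⟶ G) (hF : adequate A F) (hG : adequate A G) :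
    adequate A (kernel φ) := by
  obtain ⟨ι, L, -, e, π, he, hπ⟩ := exists_cover hF
  obtain ⟨eF⟩ := nonempty_emb hF
  obtain ⟨eG⟩ := nonempty_emb hG
  obtain ⟨g, hg⟩ := he eF.M (π ≫ eF.j)
  obtain ⟨h, hh⟩ := he eG.M (π ≫ φ ≫ eG.j)
  have hg' : ∀ B z, um g B (apo e.j B z) = apo eF.j B (ap π B z) := fun B z =>
    congrArg (fun (t : (∐ L) ⟶ (underline A).obj eF.M) => apo t B z) hg
  have hh' : ∀ B z, um h B (apo e.j B z) = apo eG.j B (ap φ B (ap π B z)) := fun B z =>
    congrArg (fun (t : (∐ L) ⟶ (underline A).obj eG.M) => apo t B z) hh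
  let W := prodObj eG.M e.N
  let τ : eF.M ⟶ cokObj (plift g (plift h e.ψ)) := pinl eF.M W ≫ cokπ (plift g (plift h e.ψ))
  refine adequate_of_emb ⟨eF.M, _, plift eF.ψ τ, kernel.ι φ ≫ eF.j,
    fun B => (eF.inj B).comp (injective_ap_kernel_ι φ B), fun B x => ?_, fun B y hy => ?_⟩
  · show um (plift eF.ψ τ) B (apo eF.j B (ap (kernel.ι φ) B x)) = 0
    rw [um_plift_eq_zero, eF.mem, um_comp, um_cokπ_eq_zero]
    obtain ⟨z, hz⟩ := hπ B (ap (kernel.ι φ) B x)
    refine ⟨rfl, apo e.j B z, um_prod_ext ?_ ?_⟩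
    · rw [um_plift_fst, um_pinl_fst, hg', hz]
    · rw [um_plift_snd, um_pinl_snd, um_plift_eq_zero, hh', hz, ap_kernel_ι, map_zero, e.mem]
      exact ⟨rfl, rfl⟩
  · rw [um_plift_eq_zero, um_comp, um_cokπ_eq_zero] at hy
    obtain ⟨-, q, hq⟩ := hy
    have h₁ := congrArg (um (pfst eF.M W) B) hq
    have h₂ := congrArg (um (psnd eF.M W) B) hq
    rw [um_plift_fst, um_pinl_fst] at h₁
    rw [um_plift_snd, um_pinl_snd, um_plift_eq_zero] at h₂
    obtain ⟨z, rfl⟩ := e.exists_of_mem B q h₂.2
    obtain ⟨x, hx⟩ := exists_kernel φ B (ap π B z) (eG.inj B (by rw [← hh', h₂.1, map_zero]))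
    exact ⟨x, ((congrArg (apo eF.j B) hx).trans (hg' B z).symm).trans h₁⟩

/-- A coproduct of adequate functors is adequate. -/
theorem adequate_sigma {ι : Type (u + 1)} (F : ι → MVF A) (h : ∀ i, adequate A (F i)) : adequate A (∐ F) :=
  adequate_of_emb (sumEmb fun i => (nonempty_emb (h i)).some)

/-- A colimit of adequate functors is adequate. -/
theorem adequate_colimit' {J : Type (u + 1)} [SmallCategory J] (D : J ⥤ MVF A)
    (hD : ∀ j, adequate A (D.obj j)) : adequate A (colimit D) := by
  let R := Σ p : J × J, (p.1 ⟶ p.2)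
  let δ : (∐ fun r : R => D.obj r.1.1) ⟶ ∐ D.obj :=
    Sigma.desc fun r => Sigma.ι D.obj r.1.1 - D.map r.2 ≫ Sigma.ι D.obj r.1.2
  let c : Cocone D :=
    { pt := cokernel δ
      ι := { app := fun j => Sigma.ι D.obj j ≫ cokernel.π δ
             naturality := fun j k f => by
               have h0 := congrArg (fun t => Sigma.ι (fun r : R => D.obj r.1.1) ⟨(j, k), f⟩ ≫ t)
                 (cokernel.condition δ)
               simp only [δ, Sigma.ι_desc_assoc, Preadditive.sub_comp, comp_zero, sub_eq_zero] at h0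
               simp only [Functor.const_obj_obj, Functor.const_obj_map, Category.comp_id]
               rw [h0, Category.assoc] } }
  have hc : IsColimit c :=
    { desc := fun s => cokernel.desc δ (Sigma.desc s.ι.app) (Sigma.hom_ext _ _ fun r => by
        simp [δ, s.w])
      fac := fun s j => by simp [c]
      uniq := fun s m hm => coequalizer.hom_ext (Sigma.hom_ext _ _ fun j => by
        have := hm j
        simp [c] at this ⊢
        exact this) }
  exact (adequate A).prop_of_iso (hc.coconePointUniqueUpToIso (colimit.isColimit D))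
    (adequate_cokernel δ (adequate_sigma _ fun r => hD _) (adequate_sigma _ hD))

end

end Groth.L23.Adq
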