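import Groth.Agent.L23.Adeq.Cover

/-!
# Extensions of adequate functors
-/

universe u

open CategoryTheory Limits Opposite TensorProduct

set_option backward.isDefEq.respectTransparency.types false
set_option linter.style.haveILetI false

namespace Groth.L23.Adq

open _root_.Adeq

noncomputable section

variable {A : Type u} [CommRing A]

section Biprod

variable {F G : MVF A} (B : Alg A)

theorem fst_inl (x : F.obj (pt B)) : ap (biprod.fst : F ⊞ G ⟶ F) B (ap biprod.inl B x) = x :=
  congrArg (fun (k : F ⟶ F) => ap k B x) biprod.inl_fst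

theorem fst_inr (x : G.obj (pt B)) : ap (biprod.fst : F ⊞ G ⟶ F) B (ap biprod.inr B x) = 0 :=
  congrArg (fun (k : G ⟶ F) => ap k B x) biprod.inr_fst

theorem snd_inl (x : F.obj (pt B)) : ap (biprod.snd : F ⊞ G ⟶ G) B (ap biprod.inl B x) = 0 :=
  congrArg (fun (k : F ⟶ G) => ap k B x) biprod.inl_snd

theorem snd_inr (x : G.obj (pt B)) : ap (biprod.snd : F ⊞ G ⟶ G) B (ap biprod.inr B x) = x :=
  congrArg (fun (k : G ⟶ G) => ap k B x) biprod.inr_snd

theorem biprod_total (x : (F ⊞ G).obj (pt B)) :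
    x = ap biprod.inl B (ap (biprod.fst : F ⊞ G ⟶ F) B x) +
      ap biprod.inr B (ap (biprod.snd : F ⊞ G ⟶ G) B x) :=
  (congrArg (fun (k : F ⊞ G ⟶ F ⊞ G) => ap k B x) biprod.total).symm

end Biprod

theorem adequate_underline (M : ModuleCat.{u + 1} A) : adequate A ((underline A).obj M) :=
  adequate_of_emb (idEmb M)

theorem adequate_biprod {F G : MVF A} (hF : adequate A F) (hG : adequate A G) : adequate A (F ⊞ G) :=
  adequate_of_splitting (S := ShortComplex.mk (biprod.inl : F ⟶ F ⊞ G) biprod.snd biprod.inl_snd)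
    { r := biprod.fst, s := biprod.inr } (nonempty_emb hF).some (nonempty_emb hG).some

/-- A map from a linearly adequate functor lifts through a surjection with underlined kernel. -/
theorem exists_lift_linAdequate {G H L X : MVF A} (eX : Emb X) (i : X ⟶ G)
    (p : G ⟶ H) (hi : ∀ B, Function.Injective (ap i B)) (hp : ∀ B, Function.Surjective (ap p B))
    (h0 : i ≫ p = 0) (hex : ∀ B x, ap p B x = 0 → ∃ m, ap i B m = x) (hL : linAdequate A L) (π : L ⟶ H) :
    ∃ l : L ⟶ G, l ≫ p = π := by
  let d : G ⊞ L ⟶ H := biprod.fst ≫ p - biprod.snd ≫ π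
  let i' : X ⟶ kernel d := kernel.lift d (i ≫ biprod.inl) (by simp [d, h0])
  have hi' : ∀ B m, ap (kernel.ι d) B (ap i' B m) = ap biprod.inl B (ap i B m) := fun B m =>
    congrArg (fun (k : X ⟶ G ⊞ L) => ap k B m) (kernel.lift_ι d _ _)
  let p' : kernel d ⟶ L := kernel.ι d ≫ biprod.snd
  have hd : ∀ B z, ap d B z = ap p B (ap biprod.fst B z) - ap π B (ap biprod.snd B z) := fun B z => rfl
  obtain ⟨P, P', φ₀, _, _, _, _, ⟨k⟩⟩ := hL
  obtain ⟨s, hs⟩ := @exists_section A _ (kernel d) L X i' p'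
    (fun B x y h => hi B (by
      have h' := congrArg (fun z => ap (biprod.fst : G ⊞ L ⟶ G) B (ap (kernel.ι d) B z)) h
      simpa only [hi', fst_inl] using h'))
    (fun B l => by
      obtain ⟨y, hy⟩ := hp B (ap π B l)
      obtain ⟨z, hz⟩ := exists_kernel d B (ap biprod.inl B y + ap biprod.inr B l)
        (by rw [hd, map_add (ap biprod.fst B), map_add (ap biprod.snd B), fst_inl, fst_inr, snd_inl, snd_inr, add_zero, zero_add, hy, sub_self])
      refine ⟨z, ?_⟩
      show ap biprod.snd B (ap (kernel.ι d) B z) = l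
      rw [hz, map_add, snd_inl, snd_inr, zero_add])
    (by rw [← Category.assoc, kernel.lift_ι, Category.assoc, biprod.inl_snd, comp_zero])
    (fun B z hz => by
      have hz' : ap biprod.snd B (ap (kernel.ι d) B z) = 0 := hz
      have h := ap_kernel_ι d B z
      rw [hd, hz', map_zero, sub_zero] at h
      obtain ⟨m, hm⟩ := hex B _ h
      refine ⟨m, injective_ap_kernel_ι d B ?_⟩
      rw [hi', hm]
      conv_rhs => rw [biprod_total B (ap (kernel.ι d) B z), hz', map_zero, add_zero])
    eX (embOfIso (kerEmb φ₀) k) ‹Module.Finite A P› ‹Module.Free A P› ‹Module.Finite A P'› ‹Module.Free A P'›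
  refine ⟨s ≫ kernel.ι d ≫ biprod.fst, hom_ext' fun B l => ?_⟩
  have h := ap_kernel_ι d B (ap s B l)
  rw [hd, sub_eq_zero] at h
  exact h.trans (congrArg (ap π B) (congrArg (fun (k : L ⟶ L) => ap k B l) hs))

set_option maxHeartbeats 2000000 in
/-- An extension of adequate functors is adequate. -/
theorem adequate_extension (S : ShortComplex (MVF A)) (hS : S.ShortExact) (h₁ : adequate A S.X₁)
    (h₃ : adequate A S.X₃) : adequate A S.X₂ := by
  obtain ⟨e⟩ := nonempty_emb h₁
  haveI := hS.mono_f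
  haveI := hS.epi_g
  have hf : ∀ B, Function.Injective (ap S.f B) := (mono_iff' _).1 inferInstance
  have hg : ∀ B, Function.Surjective (ap S.g B) := (epi_iff' _).1 inferInstance
  have h0 : ∀ B x, ap S.g B (ap S.f B x) = 0 := fun B x =>
    congrArg (fun (k : S.X₁ ⟶ S.X₃) => ap k B x) S.zero
  let M := e.M
  let δ : S.X₁ ⟶ S.X₂ ⊞ (underline A).obj M := S.f ≫ biprod.inl - e.j ≫ biprod.inr
  let a : S.X₂ ⟶ cokernel δ := biprod.inl ≫ cokernel.π δ
  let b : (underline A).obj M ⟶ cokernel δ := biprod.inr ≫ cokernel.π δ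
  have hδ₁ : ∀ B x, ap biprod.fst B (ap δ B x) = ap S.f B x := fun B x => by
    show ap biprod.fst B (ap biprod.inl B (ap S.f B x) - ap biprod.inr B (ap e.j B x)) = _
    rw [map_sub, fst_inl, fst_inr, sub_zero]
  have hδ₂ : ∀ B x, ap biprod.snd B (ap δ B x) = - apo e.j B x := fun B x => by
    show ap biprod.snd B (ap biprod.inl B (ap S.f B x) - ap biprod.inr B (ap e.j B x)) = _
    rw [map_sub, snd_inl, snd_inr, zero_sub]
    rfl
  have hab : ∀ B y, ∃ g m, y = ap a B g + api b B m := fun B y => by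
    obtain ⟨z, rfl⟩ := surjective_ap_cokernel_π δ B y
    refine ⟨ap biprod.fst B z, ap biprod.snd B z, ?_⟩
    exact (congrArg _ (biprod_total B z)).trans (map_add _ _ _)
  have ha : ∀ B, Function.Injective (ap a B) := fun B => (injective_iff_map_eq_zero (ap a B)).2 fun g hgz => by
    obtain ⟨x, hx⟩ := (ap_cokernel_π_eq_zero δ B _).1 hgz
    have h1 : ap S.f B x = g := (hδ₁ B x).symm.trans ((congrArg (ap biprod.fst B) hx).trans (fst_inl B g))
    have h2 : - apo e.j B x = 0 := (hδ₂ B x).symm.trans ((congrArg (ap biprod.snd B) hx).trans (snd_inl B g))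
    rw [← h1, (injective_iff_map_eq_zero (apo e.j B)).1 (e.inj B) x (neg_eq_zero.1 h2), map_zero]
  have hb : ∀ B, Function.Injective (api b B) := fun B => (injective_iff_map_eq_zero (api b B)).2 fun m hm => by
    obtain ⟨x, hx⟩ := (ap_cokernel_π_eq_zero δ B _).1 hm
    have h1 : ap S.f B x = 0 := (hδ₁ B x).symm.trans ((congrArg (ap biprod.fst B) hx).trans (fst_inr B _))
    have h2 : - apo e.j B x = m := (hδ₂ B x).symm.trans ((congrArg (ap biprod.snd B) hx).trans (snd_inr B _))
    rw [(injective_iff_map_eq_zero (ap S.f B)).1 (hf B) x h1, map_zero, neg_zero] at h2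
    exact h2.symm
  have hjb : ∀ B x, api b B (apo e.j B x) = ap a B (ap S.f B x) := fun B x =>
    (congrArg (fun (k : S.X₁ ⟶ cokernel δ) => ap k B x)
      (show S.f ≫ a = e.j ≫ b from sub_eq_zero.1 (by
        have := cokernel.condition δ
        rw [Preadditive.sub_comp, Category.assoc, Category.assoc] at this
        exact this))).symm
  let p : cokernel δ ⟶ S.X₃ := cokernel.desc δ (biprod.fst ≫ S.g) (by
    rw [Preadditive.sub_comp, Category.assoc, Category.assoc, biprod.inl_fst_assoc, biprod.inr_fst_assoc,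
      zero_comp, comp_zero, sub_zero, S.zero])
  have hpa : ∀ B g, ap p B (ap a B g) = ap S.g B g := fun B g =>
    congrArg (fun (k : S.X₂ ⟶ S.X₃) => ap k B g) (show a ≫ p = S.g by simp [a, p])
  have hbp : b ≫ p = 0 := by simp [b, p]
  have hpb : ∀ B m, ap p B (api b B m) = 0 := fun B m =>
    congrArg (fun (k : (underline A).obj M ⟶ S.X₃) => ap k B m) hbp
  have hp : ∀ B, Function.Surjective (ap p B) := fun B x => by
    obtain ⟨g, rfl⟩ := hg B x
    exact ⟨ap a B g, hpa B g⟩
  have hex : ∀ B x, ap p B x = 0 → ∃ m, api b B m = x := fun B y hy => by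
    obtain ⟨g, m, rfl⟩ := hab B y
    rw [map_add, hpa, hpb, add_zero] at hy
    obtain ⟨x, rfl⟩ := exists_of_exact S hS.exact B g hy
    exact ⟨apo e.j B x + m, by rw [map_add, hjb]⟩
  obtain ⟨ι, L, hL, eL, π, -, hπ⟩ := exists_cover h₃
  choose l hl using fun i => exists_lift_linAdequate (idEmb M) b p hb hp hbp hex (hL i) (Sigma.ι L i ≫ π)
  let lam : (∐ L) ⟶ cokernel δ := Sigma.desc l
  have hlam : lam ≫ p = π := Sigma.hom_ext _ _ fun i => by rw [Sigma.ι_desc_assoc, hl i]
  have hlamp : ∀ B z, ap p B (ap lam B z) = ap π B z := fun B z =>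
    congrArg (fun (k : (∐ L) ⟶ S.X₃) => ap k B z) hlam
  haveI : Mono b := (mono_iff' b).2 hb
  obtain ⟨μ, hμ⟩ := exists_factor_of_forall b (kernel.ι π ≫ lam) fun B k =>
    hex B _ ((hlamp B _).trans (ap_kernel_ι π B k))
  have hμ' : ∀ B k, api b B (apo μ B k) = ap lam B (ap (kernel.ι π) B k) := fun B k =>
    congrArg (fun (t : kernel π ⟶ cokernel δ) => ap t B k) hμ
  let m₀ : kernel π ⟶ (underline A).obj M ⊞ ∐ L := kernel.ι π ≫ biprod.inr - μ ≫ biprod.inl
  let q : (underline A).obj M ⊞ (∐ L) ⟶ cokernel δ := biprod.desc b lam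
  have hq : ∀ B z, ap q B z = api b B (ap biprod.fst B z) + ap lam B (ap biprod.snd B z) := fun B z =>
    congrArg (fun (t : (underline A).obj M ⊞ (∐ L) ⟶ cokernel δ) => ap t B z) (biprod.desc_eq (f := b) (g := lam))
  have hm₀ : ∀ B k, ap m₀ B k =
      ap biprod.inr B (ap (kernel.ι π) B k) - ap biprod.inl B (apo μ B k) := fun B k => rfl
  have hqm : m₀ ≫ q = 0 := by simp [m₀, q, hμ]
  let c : cokernel m₀ ⟶ cokernel δ := cokernel.desc m₀ q hqm
  have hc : ∀ B z, ap c B (ap (cokernel.π m₀) B z) = ap q B z := fun B z =>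
    congrArg (fun (t : (underline A).obj M ⊞ (∐ L) ⟶ cokernel δ) => ap t B z) (cokernel.π_desc m₀ q hqm)
  haveI : IsIso c := isIso_of_bijective c fun B => by
    refine ⟨(injective_iff_map_eq_zero (ap c B)).2 fun y hy => ?_, fun y => ?_⟩
    · obtain ⟨z, rfl⟩ := surjective_ap_cokernel_π m₀ B y
      rw [hc, hq] at hy
      have h1 := congrArg (ap p B) hy
      rw [map_add, hpb, zero_add, hlamp, map_zero] at h1
      obtain ⟨k, hk⟩ := exists_kernel π B _ h1
      rw [← hk, ← hμ', ← map_add] at hy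
      have h2 := (injective_iff_map_eq_zero (api b B)).1 (hb B) _ hy
      refine (ap_cokernel_π_eq_zero m₀ B z).2 ⟨k, ?_⟩
      have h3 : ap biprod.fst B z = - apo μ B k := eq_neg_of_add_eq_zero_left h2
      rw [hm₀]
      conv_rhs => rw [biprod_total B z, ← hk, h3]
      exact ((congrArg (· + _) (map_neg (api (biprod.inl : (underline A).obj M ⟶ (underline A).obj M ⊞ ∐ L) B) (apo μ B k))).trans (neg_add_eq_sub _ _)).symm
    · obtain ⟨z, hz⟩ := hπ B (ap p B y)
      obtain ⟨m, hm⟩ := hex B (y - ap lam B z) (by rw [map_sub, hlamp, hz, sub_self])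
      refine ⟨ap (cokernel.π m₀) B (ap biprod.inl B m + ap biprod.inr B z), ?_⟩
      rw [hc, hq, map_add, map_add, fst_inl, fst_inr, snd_inl, snd_inr, add_zero, zero_add]
      exact (congrArg (· + ap lam B z) hm).trans (sub_add_cancel _ _)
  have hG' : adequate A (cokernel δ) :=
    (adequate A).prop_of_iso (asIso c) (adequate_cokernel m₀
      (adequate_kernel π (adequate_of_emb eL) h₃) (adequate_biprod (adequate_underline M) (adequate_of_emb eL)))
  let r : cokernel δ ⟶ cokernel e.j :=
    cokernel.desc δ (biprod.snd ≫ cokernel.π e.j) (by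
      rw [Preadditive.sub_comp, Category.assoc, Category.assoc, biprod.inl_snd_assoc, biprod.inr_snd_assoc,
        zero_comp, comp_zero, zero_sub, cokernel.condition, neg_zero])
  have har : a ≫ r = 0 := by simp [a, r]
  have hrb : ∀ B m, ap r B (api b B m) = ap (cokernel.π e.j) B m := fun B m =>
    congrArg (fun (k : (underline A).obj M ⟶ cokernel e.j) => ap k B m) (show b ≫ r = _ by simp [b, r])
  have hak : ∀ B g, ap (kernel.ι r) B (ap (kernel.lift r a har) B g) = ap a B g := fun B g =>
    congrArg (fun (k : S.X₂ ⟶ cokernel δ) => ap k B g) (kernel.lift_ι r a har)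
  haveI : IsIso (kernel.lift r a har) := isIso_of_bijective _ fun B => by
    refine ⟨fun g g' h => ha B ((hak B g).symm.trans ((congrArg _ h).trans (hak B g'))), fun y => ?_⟩
    obtain ⟨g, m, hy⟩ := hab B (ap (kernel.ι r) B y)
    have h := ap_kernel_ι r B y
    rw [hy, map_add, hrb,
      show ap r B (ap a B g) = 0 from congrArg (fun (k : S.X₂ ⟶ cokernel e.j) => ap k B g) har,
      zero_add] at h
    obtain ⟨x, hx⟩ := (ap_cokernel_π_eq_zero e.j B m).1 h
    refine ⟨g + ap S.f B x, injective_ap_kernel_ι r B ?_⟩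
    rw [hak, hy, map_add, ← hx]
    exact congrArg _ (hjb B x).symm
  exact (adequate A).prop_of_iso (asIso (kernel.lift r a har)).symm
    (adequate_kernel r hG' (adequate_cokernel e.j h₁ (adequate_underline M)))

end

end Groth.L23.Adq
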