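import Groth.Agent.L23.Adeq.Basic
import Mathlib.Algebra.Category.Ring.FilteredColimits
import Mathlib.CategoryTheory.Limits.Constructions.Over.Connected
import Mathlib.CategoryTheory.Limits.Types.Filtered
import Mathlib.CategoryTheory.Filtered.Connected
import Mathlib.LinearAlgebra.DirectSum.Finsupp
import Mathlib.LinearAlgebra.Finsupp.LinearCombination
import Mathlib.Algebra.Category.Grp.Basic

/-!
# Adequate functors commute with filtered colimits
-/

universe u w

open CategoryTheory Limits Opposite TensorProduct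

set_option backward.isDefEq.respectTransparency.types false
set_option linter.style.haveILetI false

namespace Groth.L23.Adq

open _root_.Adeq

noncomputable section

section General

variable {J : Type u} [SmallCategory J] [IsFiltered J] (G : J ⥤ AddCommGrpCat.{w})

/-- An elementwise criterion for filtered colimits of abelian groups. -/
theorem isColimit_of_elementwise (c : Cocone G) (hs : ∀ y : c.pt, ∃ i x, c.ι.app i x = y)
    (hz : ∀ i (x : G.obj i), c.ι.app i x = 0 → ∃ (k : J) (f : i ⟶ k), G.map f x = 0) :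
    Nonempty (IsColimit c) := by
  choose iy xy hxy using hs
  have wd : ∀ (s : Cocone G) i (x : G.obj i),
      s.ι.app (iy (c.ι.app i x)) (xy (c.ι.app i x)) = s.ι.app i x := by
    intro s i x
    set i' := iy (c.ι.app i x)
    set x' := xy (c.ι.app i x)
    have hx' : c.ι.app i' x' = c.ι.app i x := hxy _
    let l := IsFiltered.max i' i
    have h0 : c.ι.app l (G.map (IsFiltered.leftToMax i' i) x' - G.map (IsFiltered.rightToMax i' i) x) = 0 := by
      rw [map_sub, ← ConcreteCategory.comp_apply, ← ConcreteCategory.comp_apply, c.w, c.w, hx', sub_self]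
    obtain ⟨k, f, hk⟩ := hz l _ h0
    have h := congrArg (s.ι.app k) hk
    rw [← ConcreteCategory.comp_apply, s.w, map_zero, map_sub, sub_eq_zero, ← ConcreteCategory.comp_apply,
      ← ConcreteCategory.comp_apply, s.w, s.w] at h
    exact h
  refine ⟨{ desc := fun s => AddCommGrpCat.ofHom
              { toFun := fun y => s.ι.app (iy y) (xy y), map_zero' := ?_, map_add' := fun y z => ?_ }
            fac := fun s i => by ext x; exact wd s i x
            uniq := fun s m hm => by
              ext y
              show m y = s.ι.app (iy y) (xy y)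
              rw [← hm (iy y)]
              exact congrArg m (hxy y).symm }⟩
  · show s.ι.app (iy 0) (xy 0) = 0
    have h := wd s (iy 0) 0
    rw [map_zero, map_zero] at h
    exact h
  · show @id s.pt (s.ι.app (iy (y + z)) (xy (y + z))) = @id s.pt (s.ι.app (iy y) (xy y)) + @id s.pt (s.ι.app (iy z) (xy z))
    let l := IsFiltered.max (iy y) (iy z)
    have e : c.ι.app l (G.map (IsFiltered.leftToMax _ _) (xy y) + G.map (IsFiltered.rightToMax _ _) (xy z)) = y + z := by
      rw [map_add, ← ConcreteCategory.comp_apply, ← ConcreteCategory.comp_apply, c.w, c.w, hxy, hxy]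
    have h := wd s l (G.map (IsFiltered.leftToMax _ _) (xy y) + G.map (IsFiltered.rightToMax _ _) (xy z))
    rw [e, map_add, ← ConcreteCategory.comp_apply, ← ConcreteCategory.comp_apply, s.w, s.w] at h
    exact h

end General

variable {A : Type u} [CommRing A] {J : Type u} [SmallCategory J] [IsFiltered J] {D : J ⥤ Alg A}
  {c : Cocone D} (hc : IsColimit c)

include hc in
theorem alg_colimit : (∀ b : c.pt, ∃ i x, (c.ι.app i).hom x = b) ∧
    ∀ i (x : D.obj i), (c.ι.app i).hom x = 0 → ∃ (k : J) (f : i ⟶ k), (D.map f).hom x = 0 := by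
  haveI : IsConnected J := IsFiltered.isConnected J
  let R : CommRingCat.{u} := CommRingCat.of A
  have h1 := isColimitOfPreserves (commAlgCatEquivUnder R).functor hc
  have h2 := isColimitOfPreserves (Under.forget R) h1
  have h3 := isColimitOfPreserves (CategoryTheory.forget CommRingCat.{u}) h2
  constructor
  · intro b
    obtain ⟨i, x, hx⟩ := Types.jointly_surjective _ h3 b
    exact ⟨i, x, hx⟩
  · intro i x hx
    obtain ⟨k, f, g, h⟩ := (Types.FilteredColimit.isColimit_eq_iff _ h3 (i := i) (j := i) (xi := x)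
      (xj := (0 : D.obj i))).1 (hx.trans (map_zero (c.ι.app i).hom).symm)
    exact ⟨k, f, h.trans (map_zero (D.map g).hom)⟩

theorem ut_comp' (M : ModuleCat.{u + 1} A) {B B' B'' : Alg A} (f : B ⟶ B') (g : B' ⟶ B'') (x : UV M B) :
    ut M (f ≫ g) x = ut M g (ut M f x) := by
  rw [ut, CommAlgCat.hom_comp, AlgHom.comp_toLinearMap, LinearMap.rTensor_comp_apply]

theorem ut_cocone (M : ModuleCat.{u + 1} A) {i k : J} (f : i ⟶ k) (x : UV M (D.obj i)) :
    ut M (c.ι.app k) (ut M (D.map f) x) = ut M (c.ι.app i) x :=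
  (ut_comp' M _ _ x).symm.trans (by rw [c.w f])

include hc in
theorem underline_surj (M : ModuleCat.{u + 1} A) (z : UV M c.pt) :
    ∃ i x, ut M (c.ι.app i) x = z := by
  induction z using TensorProduct.induction_on with
  | zero =>
    haveI : Nonempty J := IsFiltered.nonempty
    exact ⟨Classical.arbitrary J, 0, map_zero _⟩
  | tmul b m =>
    obtain ⟨i, x, rfl⟩ := (alg_colimit hc).1 b
    exact ⟨i, x ⊗ₜ[A] m, rfl⟩
  | add y z hy hz =>
    obtain ⟨i, x, rfl⟩ := hy
    obtain ⟨j, x', rfl⟩ := hz
    exact ⟨IsFiltered.max i j, ut M (D.map (IsFiltered.leftToMax i j)) x + ut M (D.map (IsFiltered.rightToMax i j)) x',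
      by rw [map_add, ut_cocone, ut_cocone]⟩

theorem finsupp_ut {α : Type (u + 1)} [DecidableEq α] {B B' : Alg A} (f : B ⟶ B')
    (x : (B : Type u) ⊗[A] (α →₀ A)) (a : α) :
    TensorProduct.finsuppScalarRight A A B' α (f.hom.toLinearMap.rTensor (α →₀ A) x) a =
      f.hom (TensorProduct.finsuppScalarRight A A B α x a) := by
  induction x using TensorProduct.induction_on with
  | zero => simp
  | tmul b p => simp
  | add x y hx hy => simp only [map_add, Finsupp.add_apply, hx, hy]

include hc in
theorem underline_zero (M : ModuleCat.{u + 1} A) (i : J) (z : UV M (D.obj i))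
    (hz : ut M (c.ι.app i) z = 0) : ∃ (k : J) (f : i ⟶ k), ut M (D.map f) z = 0 := by
  classical
  let tot : (M →₀ A) →ₗ[A] M := Finsupp.linearCombination A _root_.id
  have hsur : Function.Surjective tot := fun y =>
    ⟨Finsupp.single y (1 : A), (Finsupp.linearCombination_single A (1 : A) y).trans (one_smul A y)⟩
  have he0 : Function.Exact tot.ker.subtype tot := LinearMap.exact_subtype_ker_map tot
  have hex : ∀ B : Alg A, Function.Exact (tot.ker.subtype.lTensor (B : Type u)) (tot.lTensor (B : Type u)) :=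
    fun B => lTensor_exact (R := A) (M := ↥tot.ker) (N := M →₀ A) (P := M) (B : Type u) he0 hsur
  let P : ModuleCat.{u + 1} A := ModuleCat.of A (M →₀ A)
  let K : ModuleCat.{u + 1} A := ModuleCat.of A tot.ker
  let t : P ⟶ M := ModuleCat.ofHom tot
  let s : K ⟶ P := ModuleCat.ofHom tot.ker.subtype
  have hnat : ∀ {M₁ M₂ : ModuleCat.{u + 1} A} (g : M₁ ⟶ M₂) {B B' : Alg A} (f : B ⟶ B') (x : UV M₁ B),
      um g B' (ut M₁ f x) = ut M₂ f (um g B x) := by
    intro M₁ M₂ g B B' f x
    induction x using TensorProduct.induction_on with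
    | zero => simp
    | tmul b m => simp
    | add x y hx hy => rw [map_add, map_add, map_add, map_add, hx, hy]
  obtain ⟨zt, rfl⟩ := um_surjective t hsur (D.obj i) z
  rw [← hnat] at hz
  obtain ⟨w, hw⟩ := (um_exact s t he0 hsur c.pt _).1 hz
  obtain ⟨j, wj, rfl⟩ := underline_surj hc K w
  let k := IsFiltered.max i j
  let a := D.map (IsFiltered.leftToMax i j)
  let b := D.map (IsFiltered.rightToMax i j)
  let δ : UV P (D.obj k) := ut P a zt - um s (D.obj k) (ut K b wj)
  have hδ : ut P (c.ι.app k) δ = 0 := by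
    rw [map_sub, ← hnat, ut_cocone, ut_cocone]
    exact sub_eq_zero.2 hw.symm
  let co : M → (D.obj k) := fun y => TensorProduct.finsuppScalarRight A A (D.obj k) M δ y
  have hco : ∀ y, (c.ι.app k).hom (co y) = 0 := fun y => by
    rw [← finsupp_ut (c.ι.app k) δ y]
    exact (congrArg (fun x => TensorProduct.finsuppScalarRight A A c.pt M x y) hδ).trans (by simp)
  have hkill : ∀ T : Finset M, ∃ (l : J) (f : k ⟶ l), ∀ y ∈ T, (D.map f).hom (co y) = 0 := by
    intro T
    induction T using Finset.induction_on with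
    | empty => exact ⟨k, 𝟙 k, by simp⟩
    | insert y T _ ih =>
      obtain ⟨l, f, hf⟩ := ih
      obtain ⟨m, g, hg⟩ := (alg_colimit hc).2 k _ (hco y)
      obtain ⟨n, p, q, hpq⟩ := IsFilteredOrEmpty.cocone_objs l m
      obtain ⟨n', r, hr⟩ : ∃ (n' : J) (r : n ⟶ n'), (f ≫ p) ≫ r = (g ≫ q) ≫ r :=
        IsFilteredOrEmpty.cocone_maps (f ≫ p) (g ≫ q)
      refine ⟨n', (f ≫ p) ≫ r, fun y' hy' => ?_⟩
      rcases Finset.mem_insert.1 hy' with rfl | h
      · rw [hr, Category.assoc, D.map_comp, CommAlgCat.hom_comp, AlgHom.comp_apply, hg, map_zero]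
      · rw [Category.assoc, D.map_comp, CommAlgCat.hom_comp, AlgHom.comp_apply, hf y' h, map_zero]
  obtain ⟨l, f, hf⟩ := hkill (TensorProduct.finsuppScalarRight A A (D.obj k) M δ).support
  refine ⟨l, IsFiltered.leftToMax i j ≫ f, ?_⟩
  have hδ0 : ut P (D.map f) δ = 0 := by
    apply (TensorProduct.finsuppScalarRight A A (D.obj l) M).injective
    refine Finsupp.ext fun y => ?_
    rw [map_zero, Finsupp.zero_apply]
    refine (finsupp_ut (D.map f) δ y).trans ?_
    by_cases hy : TensorProduct.finsuppScalarRight A A (D.obj k) M δ y = 0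
    · rw [hy, map_zero]
    · exact hf y (Finsupp.mem_support_iff.2 hy)
  have h := congrArg (um t (D.obj l)) hδ0
  rw [map_zero, hnat, map_sub] at h
  have hst : um t (D.obj k) (um s (D.obj k) (ut K b wj)) = 0 := (um_exact s t he0 hsur _ _).2 ⟨_, rfl⟩
  rw [hst, sub_zero, hnat, ← ut_comp'] at h
  rw [D.map_comp]
  exact h

include hc in
theorem isColimit_toAb {F : MVF A} (e : Emb F) : Nonempty (IsColimit (F.toAb.mapCocone c)) := by
  refine isColimit_of_elementwise _ _ (fun y => ?_) fun i x hx => ?_
  · obtain ⟨i, m, hm⟩ := underline_surj hc e.M (apo e.j c.pt y)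
    have h0 : ut e.N (c.ι.app i) (um e.ψ _ m) = 0 := by
      have : um e.ψ c.pt (ut e.M (c.ι.app i) m) = 0 := by rw [hm]; exact e.mem _ _
      rw [← this]
      exact (congrArg (fun (g : (underline A).obj e.M ⟶ (underline A).obj e.N) => ap g c.pt (ut e.M (c.ι.app i) m)) rfl).trans
        (ap_tr ((underline A).map e.ψ) (c.ι.app i) m) |>.symm
    obtain ⟨k, f, hk⟩ := underline_zero hc e.N i _ h0
    obtain ⟨x, hx⟩ := e.exists_of_mem (D.obj k) (ut e.M (D.map f) m)
      ((ap_tr ((underline A).map e.ψ) (D.map f) m).trans hk)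
    refine ⟨k, x, e.inj c.pt ?_⟩
    refine (apo_tr e.j (c.ι.app k) x).trans ?_
    rw [hx, ut_cocone, hm]
  · have h := (apo_tr e.j (c.ι.app i) x).symm.trans ((congrArg (apo e.j c.pt) hx).trans (map_zero _))
    obtain ⟨k, f, hk⟩ := underline_zero hc e.M i _ h
    exact ⟨k, f, e.inj _ (((apo_tr e.j (D.map f) x).trans hk).trans (map_zero _).symm)⟩

end

end Groth.L23.Adq
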