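import Groth.Agent.L23.Adeq.Basic
import Mathlib.RingTheory.Flat.FaithfullyFlat.Algebra
import Mathlib.RingTheory.RingHom.Flat
import Mathlib.RingTheory.RingHom.FaithfullyFlat
import Mathlib.RingTheory.Flat.Stability
import Mathlib.RingTheory.Localization.Away.Basic
import Mathlib.RingTheory.Polynomial.Basic
import Mathlib.Algebra.Polynomial.Monic
import Mathlib.RingTheory.Flat.Localization

/-!
# Flat base change for adequate functors; linearity from units
-/

universe u

open CategoryTheory Limits Opposite TensorProduct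

set_option backward.isDefEq.respectTransparency.types false
set_option linter.style.haveILetI false

namespace Groth.L23.Adq

open _root_.Adeq

noncomputable section

variable {A : Type u} [CommRing A]

section BC

variable {B B' : Alg A} (f : B ⟶ B')

/-- The base change map, as an additive map on a tensor product. -/
def bcAdd (F : MVF A) :
    letI : Algebra B B' := f.hom.toRingHom.toAlgebra
    (B' : Type u) ⊗[B] (F.obj (pt B)) →+ F.obj (pt B') :=
  (F.bc f).hom.toAddMonoidHom

theorem bcAdd_tmul (F : MVF A) (b : B') (x : F.obj (pt B)) :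
    letI : Algebra B B' := f.hom.toRingHom.toAlgebra
    bcAdd f F (b ⊗ₜ[B] x) = b • tr F f x := rfl

theorem bcAdd_natural {F G : MVF A} (φ : F ⟶ G) :
    letI : Algebra B B' := f.hom.toRingHom.toAlgebra
    ∀ z : (B' : Type u) ⊗[B] (F.obj (pt B)),
      bcAdd f G ((ap φ B).lTensor (B' : Type u) z) = ap φ B' (bcAdd f F z) := by
  letI : Algebra B B' := f.hom.toRingHom.toAlgebra
  intro z
  induction z using TensorProduct.induction_on with
  | zero => simp
  | tmul b x =>
    rw [LinearMap.lTensor_tmul, bcAdd_tmul, bcAdd_tmul, map_smul, ap_tr]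
  | add x y hx hy => rw [map_add, map_add, map_add, map_add, hx, hy]

theorem bcAdd_underline_bijective (M : ModuleCat.{u + 1} A) :
    Function.Bijective (bcAdd f ((underline A).obj M)) := by
  letI : Algebra B B' := f.hom.toRingHom.toAlgebra
  haveI : IsScalarTower A B B' := IsScalarTower.of_algebraMap_eq fun a => (f.hom.commutes a).symm
  let E := TensorProduct.AlgebraTensorModule.cancelBaseChange A B B' B' M
  have h : ∀ z : (B' : Type u) ⊗[B] ((B : Type u) ⊗[A] M), bcAdd f ((underline A).obj M) z = E z := by
    intro z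
    induction z using TensorProduct.induction_on with
    | zero => exact (map_zero _).trans (map_zero E).symm
    | tmul b y =>
      induction y using TensorProduct.induction_on with
      | zero => rw [TensorProduct.tmul_zero]; exact (map_zero _).trans (map_zero E).symm
      | tmul c m =>
        refine (bcAdd_tmul f ((underline A).obj M) b (c ⊗ₜ[A] m)).trans ?_
        show b • ((f.hom c) ⊗ₜ[A] m : UV M B') = _
        rw [TensorProduct.AlgebraTensorModule.cancelBaseChange_tmul, TensorProduct.smul_tmul',
          smul_eq_mul, Algebra.smul_def, mul_comm]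
        rfl
      | add y₁ y₂ h₁ h₂ =>
        rw [TensorProduct.tmul_add, map_add]
        refine (map_add (bcAdd f ((underline A).obj M)) _ _).trans ?_
        rw [h₁, h₂]
        rfl
    | add y₁ y₂ h₁ h₂ =>
      refine (map_add (bcAdd f ((underline A).obj M)) _ _).trans ?_
      rw [h₁, h₂, map_add]
      rfl
  have he : (bcAdd f ((underline A).obj M) : _ → _) = E := funext h
  rw [he]
  exact E.bijective

theorem bcAdd_bijective {F : MVF A} (e : Emb F) (hf : f.hom.toRingHom.Flat) : Function.Bijective (bcAdd f F) := by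
  letI : Algebra B B' := f.hom.toRingHom.toAlgebra
  haveI : Module.Flat B B' := hf
  constructor
  · refine (injective_iff_map_eq_zero (bcAdd f F)).2 fun z hz => ?_
    have h := bcAdd_natural f e.j z
    rw [hz, map_zero] at h
    have h' := (injective_iff_map_eq_zero _).1 (bcAdd_underline_bijective f e.M).1 _ h
    exact (injective_iff_map_eq_zero _).1
      (Module.Flat.lTensor_preserves_injective_linearMap (M := (B' : Type u)) (ap e.j B) (e.inj B)) z h'
  · intro y
    obtain ⟨z, hz⟩ := (bcAdd_underline_bijective f e.M).2 (apo e.j B' y)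
    have h := bcAdd_natural f ((underline A).map e.ψ) z
    rw [hz] at h
    have h0 : (ap ((underline A).map e.ψ) B).lTensor (B' : Type u) z = 0 :=
      (injective_iff_map_eq_zero _).1 (bcAdd_underline_bijective f e.N).1 _ (h.trans (e.mem B' y))
    have hex : Function.Exact (ap e.j B) (ap ((underline A).map e.ψ) B) := fun m =>
      ⟨fun hm => e.exists_of_mem B m hm, fun ⟨x, hx⟩ => hx ▸ e.mem B x⟩
    obtain ⟨w, hw⟩ := ((Module.Flat.lTensor_exact (B' : Type u) hex) z).1 h0
    exact ⟨w, e.inj B' (((bcAdd_natural f e.j w).symm.trans (congrArg _ hw)).trans hz)⟩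

theorem isIso_bc {F : MVF A} (e : Emb F) (hf : f.hom.toRingHom.Flat) : IsIso (F.bc f) :=
  (ConcreteCategory.isIso_iff_bijective (F.bc f)).2 (bcAdd_bijective f e hf)

end BC

/-- Transition maps along faithfully flat maps are injective when base change maps are bijective. -/
theorem tr_injective {G : MVF A} {B C : Alg A} (g : B ⟶ C) (hG : IsIso (G.bc g))
    (hg : g.hom.toRingHom.FaithfullyFlat) : Function.Injective (tr G g) := by
  letI : Algebra B C := g.hom.toRingHom.toAlgebra
  haveI : Module.FaithfullyFlat B C := hg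
  have hb : Function.Bijective (bcAdd g G) := (ConcreteCategory.isIso_iff_bijective (G.bc g)).1 hG
  have h : ∀ x, tr G g x = bcAdd g G ((1 : C) ⊗ₜ[B] x) := fun x => ((bcAdd_tmul g G 1 x).trans (one_smul (C : Type u) _)).symm
  intro x y hxy
  exact Module.FaithfullyFlat.tensorProduct_mk_injective _ (hb.1 ((h x).symm.trans (hxy.trans (h y))))

/-- A natural additive family commuting with units is linear. -/
theorem linear_of_units (F G : MVF A) (φ : ∀ B : Alg A, F.obj (pt B) → G.obj (pt B))
    (hnat : ∀ ⦃B B' : Alg A⦄ (f : B ⟶ B') (x : F.obj (pt B)), φ B' (tr F f x) = tr G f (φ B x))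
    (hadd : ∀ (B : Alg A) (x y : F.obj (pt B)), φ B (x + y) = φ B x + φ B y)
    (hunit : ∀ (B : Alg A) (v : (B : Type u)ˣ) (x : F.obj (pt B)), φ B ((v : B) • x) = (v : B) • φ B x)
    (hG : ∀ ⦃B B' : Alg A⦄ (f : B ⟶ B'), f.hom.toRingHom.Flat → IsIso (G.bc f))
    (B : Alg A) (b : B) (x : F.obj (pt B)) : φ B (b • x) = b • φ B x := by
  let p : Polynomial (B : Type u) := Polynomial.X * (Polynomial.X + Polynomial.C b)
  let S := Localization.Away p
  let C : Alg A := algOf A S
  let g : B ⟶ C := CommAlgCat.ofHom (IsScalarTower.toAlgHom A (B : Type u) S)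
  have hp : IsUnit (algebraMap (Polynomial (B : Type u)) S p) := IsLocalization.Away.algebraMap_isUnit p
  rw [map_mul] at hp
  obtain ⟨v, hv⟩ := isUnit_of_mul_isUnit_left hp
  obtain ⟨w, hw⟩ := isUnit_of_mul_isUnit_right hp
  have hvw : (w : S) = (v : S) + g.hom b := by
    rw [hw, hv, map_add]
    rfl
  have key : tr G g (φ B (b • x)) = tr G g (b • φ B x) := by
    rw [tr_smul, ← hnat, tr_smul, ← hnat]
    have h1 := hunit C w (tr F g x)
    rw [hvw] at h1
    rw [add_smul, add_smul, hadd, hunit C v] at h1
    exact add_left_cancel h1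
  haveI : Module.Flat (B : Type u) S := Module.Flat.trans (B : Type u) (Polynomial (B : Type u)) S
  have hflat : g.hom.toRingHom.Flat := RingHom.flat_algebraMap_iff.2 inferInstance
  refine tr_injective g (hG g hflat) ?_ key
  refine RingHom.faithfullyFlat_algebraMap_iff.2 (Module.FaithfullyFlat.of_comap_surjective fun P => ?_)
  let P₁ : Ideal (Polynomial (B : Type u)) := P.asIdeal.map Polynomial.C
  have hpP : p ∉ P₁ := fun h => P.isPrime.ne_top ((Ideal.eq_top_iff_one _).2 (by
    have h2 : p.coeff 2 = 1 := by
      simp [p, mul_add, ← pow_two, Polynomial.coeff_C]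
    rw [← h2]
    exact Ideal.mem_map_C_iff.1 h 2))
  haveI : P₁.IsPrime := Ideal.isPrime_map_C_of_isPrime
  have hdisj : Disjoint (Submonoid.powers p : Set (Polynomial (B : Type u))) P₁ := by
    rw [Set.disjoint_left]
    rintro _ ⟨k, rfl⟩ hk
    exact hpP (Ideal.IsPrime.mem_of_pow_mem inferInstance k hk)
  refine ⟨⟨P₁.map (algebraMap (Polynomial (B : Type u)) S),
    IsLocalization.isPrime_of_isPrime_disjoint (Submonoid.powers p) S P₁ inferInstance hdisj⟩, ?_⟩
  apply PrimeSpectrum.ext
  rw [PrimeSpectrum.comap_asIdeal, IsScalarTower.algebraMap_eq (B : Type u) (Polynomial (B : Type u)) S,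
    ← Ideal.comap_comap]
  refine (congrArg (Ideal.comap (algebraMap (B : Type u) (Polynomial (B : Type u))))
    (IsLocalization.comap_map_of_isPrime_disjoint (Submonoid.powers p) S inferInstance hdisj)).trans ?_
  ext y
  rw [Ideal.mem_comap]
  refine ⟨fun h => ?_, fun h => Ideal.mem_map_of_mem _ h⟩
  simpa using Ideal.mem_map_C_iff.1 h 0

end

end Groth.L23.Adq
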