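import Groth.Agent.L23.Adeq.Coreflect
import Mathlib.Algebra.Category.ModuleCat.EnoughInjectives
import Mathlib.CategoryTheory.Preadditive.Injective.Basic

/-!
# Injectives
-/

universe u

open CategoryTheory Limits Opposite TensorProduct

set_option backward.isDefEq.respectTransparency.types false
set_option linter.style.haveILetI false

namespace Groth.L23.Adq

open _root_.Adeq

noncomputable section

variable {A : Type u} [CommRing A] (I : ∀ B : Alg A, ModuleCat.{u + 1} B)

/-- The values of the coinduced functor. -/
def CoindV (C : Alg A) : Type (u + 1) := ∀ (B : Alg A), (C ⟶ B) → I B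

instance (C : Alg A) : AddCommGroup (CoindV I C) :=
  inferInstanceAs (AddCommGroup (∀ (B : Alg A), (C ⟶ B) → I B))

instance (C : Alg A) : Module C (CoindV I C) where
  smul c v := fun B g => g.hom c • v B g
  one_smul v := funext fun B => funext fun g => show g.hom 1 • v B g = v B g by rw [map_one, one_smul]
  mul_smul c d v := funext fun B => funext fun g =>
    show g.hom (c * d) • v B g = g.hom c • g.hom d • v B g by rw [map_mul, mul_smul]
  smul_zero c := funext fun B => funext fun g => show g.hom c • (0 : I B) = 0 from smul_zero _
  smul_add c v w := funext fun B => funext fun g =>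
    show g.hom c • (v B g + w B g) = g.hom c • v B g + g.hom c • w B g from smul_add _ _ _
  add_smul c d v := funext fun B => funext fun g =>
    show g.hom (c + d) • v B g = g.hom c • v B g + g.hom d • v B g by rw [map_add, add_smul]
  zero_smul v := funext fun B => funext fun g => show g.hom 0 • v B g = (0 : I B) by rw [map_zero, zero_smul]

/-- The coinduced functor as a presheaf of abelian groups. -/
abbrev coindAb : (Alg A)ᵒᵖᵒᵖ ⥤ AddCommGrpCat.{u + 1} where
  obj X := AddCommGrpCat.of (CoindV I X.unop.unop)
  map {X Y} f := AddCommGrpCat.ofHom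
    { toFun := fun v B g => v B (f.unop.unop ≫ g)
      map_zero' := rfl
      map_add' := fun _ _ => rfl }
  map_id X := by
    ext v
    funext B g
    exact congrArg (v B) (Category.id_comp g)
  map_comp {X Y Z} f h := by
    ext v
    funext B g
    exact congrArg (v B) (Category.assoc f.unop.unop h.unop.unop g)

/-- The coinduced functor. -/
def coind : MVF A :=
  PresheafOfModules.ofPresheaf (coindAb I) fun _ _ _ _ _ => rfl

variable {F : MVF A}

/-- Maps into the coinduced functor. -/
def coindLift (χ : ∀ B : Alg A, F.obj (pt B) →ₗ[B] I B) : F ⟶ coind I :=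
  mkHom (fun C =>
    { toFun := fun x B g => χ B (tr F g x)
      map_add' := fun x y => funext fun B => funext fun g => by rw [map_add, map_add]; rfl
      map_smul' := fun c x => funext fun B => funext fun g => by
        rw [tr_smul, map_smul]
        rfl })
    fun C C' f x => funext fun B => funext fun g => congrArg (χ B) (tr_comp F f g x).symm

theorem coind_injective (hI : ∀ B, Injective (I B)) : Injective (coind I) where
  factors {X Y} φ m _ := by
    let ψ : ∀ B : Alg A, X.obj (pt B) ⟶ I B := fun B => ModuleCat.ofHom
      { toFun := fun x => @id (CoindV I B) (ap φ B x) B (𝟙 B)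
        map_add' := fun x y => by rw [map_add]; rfl
        map_smul' := fun c x => by rw [map_smul]; rfl }
    have hm : ∀ B, Mono (m.app (pt B)) := fun B =>
      (ModuleCat.mono_iff_injective _).2 ((mono_iff' m).1 inferInstance B)
    refine ⟨coindLift I fun B => (Injective.factorThru (ψ B) (m.app (pt B))).hom, hom_ext' fun C x => ?_⟩
    refine funext fun B => funext fun g => ?_
    show (Injective.factorThru (ψ B) (m.app (pt B))).hom (tr Y g (ap m C x)) = _
    rw [← ap_tr]
    refine (ConcreteCategory.congr_hom (Injective.comp_factorThru (ψ B) (m.app (pt B))) (tr X g x)).trans ?_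
    show @id (CoindV I B) (ap φ B (tr X g x)) B (𝟙 B) = @id (CoindV I C) (ap φ C x) B g
    rw [ap_tr]
    exact congrArg (@id (CoindV I C) (ap φ C x) B) (Category.comp_id g)

theorem enoughInjectives_MVF (F : MVF A) : ∃ (J : MVF A) (_ : Injective J) (i : F ⟶ J), Mono i := by
  let P : ∀ B : Alg A, InjectivePresentation (F.obj (pt B)) := fun B =>
    (EnoughInjectives.presentation (C := ModuleCat.{u + 1} B) (F.obj (pt B))).some
  refine ⟨coind fun B => (P B).J, coind_injective _ fun B => (P B).injective,
    coindLift (fun B => (P B).J) fun B => (P B).f.hom,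
    (mono_iff' _).2 fun C x y h => ?_⟩
  have h' := congrFun (congrFun h C) (𝟙 C)
  refine (ModuleCat.mono_iff_injective (P C).f).1 (P C).mono ?_
  refine ((congrArg (P C).f.hom (tr_id F C x)).symm.trans ?_).trans (congrArg (P C).f.hom (tr_id F C y))
  exact h'

theorem mono_hom {X Y : Adequate A} (m : X ⟶ Y) [Mono m] : Mono m.hom := by
  refine Preadditive.mono_of_cancel_zero _ fun {Z} g hg => ?_
  let K : Adequate A := ⟨kernel m.hom, adequate_kernel m.hom X.property Y.property⟩
  have h0 : (ObjectProperty.homMk (kernel.ι m.hom) : K ⟶ X) ≫ m = (0 : K ⟶ X) ≫ m :=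
    InducedCategory.hom_ext ((kernel.condition m.hom).trans zero_comp.symm)
  have h1 : kernel.ι m.hom = 0 := congrArg (·.hom) ((cancel_mono m).1 h0)
  rw [← kernel.lift_ι m.hom g hg, h1, comp_zero]

theorem enoughInjectives_adequate (A : Type u) [CommRing A] : EnoughInjectives (Adequate A) where
  presentation G := by
    obtain ⟨J, hJ, i, hi⟩ := enoughInjectives_MVF G.obj
    obtain ⟨h, hh⟩ := exists_corefl_lift J G.property i
    refine ⟨{ J := ⟨coreflObj J, adequate_coreflObj J⟩, f := ObjectProperty.homMk h,
              injective := ⟨fun {X Y} φ m _ => ?_⟩, mono := ?_ }⟩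
    · haveI := mono_hom m
      obtain ⟨ψ, hψ⟩ := Injective.factors (φ.hom ≫ coreflε J) m.hom
      obtain ⟨t, ht⟩ := exists_corefl_lift J Y.property ψ
      refine ⟨ObjectProperty.homMk t, InducedCategory.hom_ext ((corefl_bijective J X.property).1 ?_)⟩
      show (m.hom ≫ t) ≫ coreflε J = φ.hom ≫ coreflε J
      rw [Category.assoc, ht, hψ]
    · haveI : Mono h := by
        haveI : Mono (h ≫ coreflε J) := by rw [hh]; infer_instance
        exact mono_of_mono h (coreflε J)
      exact (adequate A).ι.mono_of_mono_map (show Mono h from inferInstance)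

end

end Groth.L23.Adq
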