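import Groth.Agent.L23.Adeq.Universal
import Mathlib.Algebra.Polynomial.Coeff
import Mathlib.LinearAlgebra.FreeModule.Finite.Basic
import Mathlib.RingTheory.Finiteness.Prod
import Mathlib.LinearAlgebra.Basis.Prod

/-!
# Extensions of a linearly adequate functor by an underlined module split
-/

universe u

open CategoryTheory Limits Opposite TensorProduct
open scoped Polynomial

set_option backward.isDefEq.respectTransparency.types false
set_option linter.style.haveILetI false

namespace Groth.L23.Adq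

open _root_.Adeq

noncomputable section

variable {A : Type u} [CommRing A] {M : ModuleCat.{u + 1} A} {F G H L : MVF A}

/-- A morphism of module valued functors from a natural family of linear maps. -/
def mkHom (s : ∀ B : Alg A, F.obj (pt B) →ₗ[B] G.obj (pt B))
    (hs : ∀ (B B' : Alg A) (f : B ⟶ B') (x : F.obj (pt B)), s B' (tr F f x) = tr G f (s B x)) : F ⟶ G where
  app X := ModuleCat.ofHom (s X.unop.unop)
  naturality {X Y} f := by
    obtain ⟨⟨B⟩⟩ := X
    obtain ⟨⟨B'⟩⟩ := Y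
    ext x
    exact hs B B' f.unop.unop x

theorem exists_of_exact (S : ShortComplex (MVF A)) (hS : S.Exact) (B : Alg A) (x : S.X₂.obj (pt B))
    (hx : ap S.g B x = 0) : ∃ y, ap S.f B y = x := by
  have h := hS.map (PresheafOfModules.evaluation.{u + 1} (ringOf A) (pt B))
  rw [ShortComplex.moduleCat_exact_iff] at h
  exact h x hx

theorem ap_add (φ θ : F ⟶ G) (B : Alg A) (x : F.obj (pt B)) : ap (φ + θ) B x = ap φ B x + ap θ B x := rfl

theorem mulLeft_rTensor {B : Alg A} (b : B) (x : UV M B) :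
    (LinearMap.mulLeft A b).rTensor M x = b • x := by
  induction x using TensorProduct.induction_on with
  | zero => simp
  | tmul c m => simp [TensorProduct.smul_tmul']
  | add x y hx hy => rw [map_add, smul_add, hx, hy]

/-- A map of polynomial algebras scaling the variable. -/
abbrev scale (R : Alg A) : algOf A (R : Type u)[X] ⟶ algOf A (R : Type u)[X][X] :=
  CommAlgCat.ofHom ((Polynomial.aeval (R := (R : Type u))
    (Polynomial.X * Polynomial.C Polynomial.X : (R : Type u)[X][X])).restrictScalars A)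

theorem c1_scale (R : Alg A) :
    (c1 (algOf A (R : Type u)[X])).comp (scale R).hom.toLinearMap =
      (LinearMap.mulLeft A (Polynomial.X : (R : Type u)[X])).comp ((cst R).hom.toLinearMap.comp (c1 R)) := by
  refine LinearMap.ext fun p => ?_
  induction p using Polynomial.induction_on' with
  | add p q hp hq => rw [map_add, map_add, hp, hq]
  | monomial k r =>
    show (Polynomial.aeval (Polynomial.X * Polynomial.C Polynomial.X : (R : Type u)[X][X])
        (Polynomial.monomial k r)).coeff 1 =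
      Polynomial.X * Polynomial.C ((Polynomial.monomial k r).coeff 1)
    rw [Polynomial.aeval_monomial, mul_pow, ← map_pow, Polynomial.algebraMap_apply,
      show algebraMap (R : Type u) (R : Type u)[X] r = Polynomial.C r from rfl,
      Polynomial.coeff_C_mul, Polynomial.coeff_mul_C, Polynomial.coeff_X_pow, Polynomial.coeff_monomial]
    by_cases hk : k = 1
    · subst hk
      rw [if_pos rfl, if_pos rfl, one_mul, pow_one, mul_comm]
    · rw [if_neg (Ne.symm hk), if_neg hk, zero_mul, mul_zero, map_zero, mul_zero]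

theorem um_c1 {N : ModuleCat.{u + 1} A} (g : M ⟶ N) (R : Alg A) (x : UV M (algOf A (R : Type u)[X])) :
    um g R ((c1 R).rTensor M x) = (c1 R).rTensor N (um g _ x) := by
  induction x using TensorProduct.induction_on with
  | zero => simp
  | tmul c m => simp
  | add x y hx hy => rw [map_add, map_add, map_add, map_add, hx, hy]

/-- The embedding of an underlined module into itself. -/
def idEmb (M : ModuleCat.{u + 1} A) : Emb ((underline A).obj M) where
  M := M
  N := ModuleCat.of A PUnit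
  ψ := 0
  j := 𝟙 _
  inj _ _ _ h := h
  mem B x := by simp [um]
  exists_of_mem _ m _ := ⟨m, rfl⟩

variable {X : MVF A}

/-- The cocycle identity solved. -/
theorem exists_homogeneous_lift {P P' : ModuleCat.{u + 1} A} {φ₀ : P ⟶ P'} (U : Univ φ₀)
    (i : X ⟶ G) (hi : ∀ B, Function.Injective (ap i B)) (eX : Emb X)
    (y : G.obj (pt U.R)) (c : X.obj (pt (algOf A (U.R : Type u)[X])))
    (hc : ap i (algOf A (U.R : Type u)[X]) c =
      tr G U.σ y - (Polynomial.X : (U.R : Type u)[X]) • tr G (cst U.R) y) :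
    ∃ d : X.obj (pt U.R), tr G U.σ (y + ap i U.R d) =
      (Polynomial.X : (U.R : Type u)[X]) • tr G (cst U.R) (y + ap i U.R d) := by
  let Rt : Alg A := algOf A (U.R : Type u)[X]
  let Rst : Alg A := algOf A (U.R : Type u)[X][X]
  let σ₂ : Rt ⟶ Rst := CommAlgCat.ofHom (Polynomial.mapAlgHom U.σ.hom)
  let μ : Rt ⟶ Rst := scale U.R
  have hcσ₂ : cst U.R ≫ σ₂ = U.σ ≫ cst Rt := by
    exact CommAlgCat.hom_ext (AlgHom.ext fun r => Polynomial.map_C _)
  have hcμ : cst U.R ≫ μ = cst U.R ≫ cst Rt := by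
    exact CommAlgCat.hom_ext (AlgHom.ext fun r => Polynomial.aeval_C _ _)
  have hσσ : U.σ ≫ σ₂ = U.σ ≫ μ := by
    refine U.uniq _ _ ?_
    rw [map_sum, map_sum]
    refine Finset.sum_congr rfl fun k _ => ?_
    simp only [LinearMap.rTensor_tmul]
    congr 1
    show Polynomial.map U.σ.hom.toRingHom (U.σ.hom (U.X k)) =
      Polynomial.aeval (Polynomial.X * Polynomial.C Polynomial.X) (U.σ.hom (U.X k))
    rw [U.hσ, Polynomial.map_mul, Polynomial.map_X, Polynomial.map_C, map_mul, Polynomial.aeval_X,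
      Polynomial.aeval_C]
    show Polynomial.X * Polynomial.C (U.σ.hom (U.X k)) = _
    rw [U.hσ, map_mul, mul_assoc]
    rfl
  have hX₂ : σ₂.hom Polynomial.X = Polynomial.X := Polynomial.map_X _
  have hXμ : μ.hom Polynomial.X = Polynomial.X * Polynomial.C Polynomial.X := Polynomial.aeval_X _
  have hμX : tr X μ c = tr X σ₂ c + (Polynomial.X : (U.R : Type u)[X][X]) • tr X (cst Rt) c := by
    apply hi Rst
    rw [map_add, map_smul]
    rw [ap_tr, ap_tr, ap_tr, hc]
    rw [map_sub, map_sub, map_sub, tr_smul, tr_smul, tr_smul, ← tr_comp, ← tr_comp, ← tr_comp, ← tr_comp,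
      ← tr_comp, ← tr_comp, hcσ₂, hcμ, hσσ, hX₂, hXμ, smul_sub, smul_smul]
    show _ = _ - _ + (_ - (Polynomial.X * Polynomial.C Polynomial.X : (U.R : Type u)[X][X]) • _)
    abel
  let cM : UV eX.M Rt := apo eX.j Rt c
  have hμc : ut eX.M μ cM = ut eX.M σ₂ cM + (Polynomial.X : (U.R : Type u)[X][X]) • ut eX.M (cst Rt) cM := by
    have h := congrArg (apo eX.j Rst) hμX
    rw [map_add, map_smul, apo_tr, apo_tr, apo_tr] at h
    exact h
  have key : cM = (Polynomial.X : (U.R : Type u)[X]) • ut eX.M (cst U.R) ((c1 U.R).rTensor eX.M cM) -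
      ut eX.M U.σ ((c1 U.R).rTensor eX.M cM) := by
    have h := congrArg ((c1 Rt).rTensor eX.M) hμc
    rw [map_add, c1_smul_cst Rt cM, ← LinearMap.rTensor_comp_apply, ← LinearMap.rTensor_comp_apply,
      c1_scale] at h
    have h2 : (c1 Rt).comp σ₂.hom.toLinearMap = U.σ.hom.toLinearMap.comp (c1 U.R) :=
      LinearMap.ext fun p => Polynomial.coeff_map _ _
    rw [h2, LinearMap.rTensor_comp_apply, LinearMap.rTensor_comp_apply, LinearMap.rTensor_comp_apply,
      mulLeft_rTensor (B := Rt)] at h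
    exact eq_sub_of_add_eq' h.symm
  obtain ⟨d, hd⟩ := eX.exists_of_mem U.R ((c1 U.R).rTensor eX.M cM)
    (by rw [um_c1, eX.mem, map_zero])
  refine ⟨d, ?_⟩
  have keyX : c = (Polynomial.X : (U.R : Type u)[X]) • tr X (cst U.R) d - tr X U.σ d := by
    apply eX.inj Rt
    rw [map_sub, map_smul, apo_tr, apo_tr, hd]
    exact key
  have h := congrArg (ap i Rt) (eq_add_of_sub_eq keyX.symm)
  rw [map_smul, map_add, ap_tr, ap_tr, hc] at h
  rw [map_add, map_add, smul_add]
  rw [h]
  abel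

/-- An extension of a linearly adequate functor by an adequate functor has a section. -/
theorem exists_section (i : X ⟶ G) (p : G ⟶ L) (hi : ∀ B, Function.Injective (ap i B))
    (hp : ∀ B, Function.Surjective (ap p B)) (h0 : i ≫ p = 0)
    (hex : ∀ B x, ap p B x = 0 → ∃ m, ap i B m = x) (eX : Emb X)
    (e : Emb L) [Module.Finite A e.M] [Module.Free A e.M] [Module.Finite A e.N] [Module.Free A e.N] :
    ∃ s : L ⟶ G, s ≫ p = 𝟙 L := by
  obtain ⟨U⟩ := nonempty_univ e.ψ
  obtain ⟨x₀, hx₀⟩ := e.exists_of_mem U.R U.ξ U.mem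
  have hlift : ∀ (B : Alg A) (x : L.obj (pt B)), ∃ f : U.R ⟶ B, tr L f x₀ = x := by
    intro B x
    obtain ⟨f, hf⟩ := U.surj B (apo e.j B x) (e.mem B x)
    exact ⟨f, e.inj B (by rw [apo_tr, hx₀]; exact hf)⟩
  have huniq : ∀ {B : Alg A} (f g : U.R ⟶ B), tr L f x₀ = tr L g x₀ → f = g := by
    intro B f g h
    have := congrArg (apo e.j B) h
    rw [apo_tr, apo_tr, hx₀] at this
    exact U.uniq f g this
  have hσx : tr L U.σ x₀ = (Polynomial.X : (U.R : Type u)[X]) • tr L (cst U.R) x₀ := by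
    apply e.inj
    rw [map_smul, apo_tr, apo_tr, hx₀]
    exact U.ut_σ
  obtain ⟨y₀, hy₀⟩ := hp U.R x₀
  obtain ⟨c, hc⟩ := hex _ (tr G U.σ y₀ - (Polynomial.X : (U.R : Type u)[X]) • tr G (cst U.R) y₀)
    (by rw [map_sub, map_smul, ap_tr, ap_tr, hy₀, hσx]; exact sub_self _)
  obtain ⟨d, hd⟩ := exists_homogeneous_lift U i hi eX y₀ c hc
  let y : G.obj (pt U.R) := y₀ + ap i U.R d
  have hy : ap p U.R y = x₀ := by
    have : ap p U.R (ap i U.R d) = 0 := congrArg (fun (k : X ⟶ L) => ap k U.R d) h0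
    rw [map_add, hy₀, this, add_zero]
  have hyσ : tr G U.σ y = (Polynomial.X : (U.R : Type u)[X]) • tr G (cst U.R) y := hd
  let fl : ∀ (B : Alg A), L.obj (pt B) → (U.R ⟶ B) := fun B x => (hlift B x).choose
  have hfl : ∀ (B : Alg A) (x : L.obj (pt B)), tr L (fl B x) x₀ = x := fun B x => (hlift B x).choose_spec
  let s : ∀ (B : Alg A), L.obj (pt B) → G.obj (pt B) := fun B x => tr G (fl B x) y
  have hps : ∀ B x, ap p B (s B x) = x := fun B x => by rw [ap_tr, hy, hfl]
  have hnat : ∀ (B B' : Alg A) (f : B ⟶ B') (x : L.obj (pt B)), s B' (tr L f x) = tr G f (s B x) := by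
    intro B B' f x
    show tr G (fl B' (tr L f x)) y = _
    rw [← tr_comp, huniq (fl B' (tr L f x)) (fl B x ≫ f) (by rw [hfl, tr_comp, hfl])]
  have hsmul : ∀ (B : Alg A) (b : B) (x : L.obj (pt B)), s B (b • x) = b • s B x := by
    intro B b x
    let ev : algOf A (U.R : Type u)[X] ⟶ B :=
      CommAlgCat.ofHom
      { Polynomial.eval₂RingHom (fl B x).hom.toRingHom b with
        commutes' := fun a => (Polynomial.eval₂_C _ _).trans ((fl B x).hom.commutes a) }
    have hev : cst U.R ≫ ev = fl B x := by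
      exact CommAlgCat.hom_ext (AlgHom.ext fun r => Polynomial.eval₂_C _ _)
    have hevX : ev.hom Polynomial.X = b := Polynomial.eval₂_X _ _
    show tr G (fl B (b • x)) y = _
    rw [huniq (fl B (b • x)) (U.σ ≫ ev) (by rw [hfl, tr_comp, hσx, tr_smul, ← tr_comp, hev, hevX, hfl]),
      tr_comp, hyσ, tr_smul, ← tr_comp, hev, hevX]
  let P := e.M
  let P' := e.N
  haveI : Module.Finite A (prodObj P P) := inferInstanceAs (Module.Finite A (e.M × e.M))
  haveI : Module.Free A (prodObj P P) := inferInstanceAs (Module.Free A (e.M × e.M))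
  haveI : Module.Finite A (prodObj P' P') := inferInstanceAs (Module.Finite A (e.N × e.N))
  haveI : Module.Free A (prodObj P' P') := inferInstanceAs (Module.Free A (e.N × e.N))
  let φ₂ : prodObj P P ⟶ prodObj P' P' := plift (pfst P P ≫ e.ψ) (psnd P P ≫ e.ψ)
  obtain ⟨U₂⟩ := nonempty_univ φ₂
  have hmem₂ := (um_plift_eq_zero _ _ _ _).1 U₂.mem
  rw [um_comp, um_comp] at hmem₂
  obtain ⟨x₁, hx₁⟩ := e.exists_of_mem U₂.R _ hmem₂.1
  obtain ⟨x₂, hx₂⟩ := e.exists_of_mem U₂.R _ hmem₂.2
  obtain ⟨η, hη⟩ := hex U₂.R (s U₂.R (x₁ + x₂) - s U₂.R x₁ - s U₂.R x₂)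
    (by rw [map_sub, map_sub, hps, hps, hps]; abel)
  have hxσ : tr L U₂.σ x₁ = (Polynomial.X : (U₂.R : Type u)[X]) • tr L (cst U₂.R) x₁ ∧
      tr L U₂.σ x₂ = (Polynomial.X : (U₂.R : Type u)[X]) • tr L (cst U₂.R) x₂ := by
    constructor
    · apply e.inj
      rw [map_smul, apo_tr, apo_tr, hx₁, ← um_ut, ← um_ut, ← map_smul]
      exact congrArg _ U₂.ut_σ
    · apply e.inj
      rw [map_smul, apo_tr, apo_tr, hx₂, ← um_ut, ← um_ut, ← map_smul]
      exact congrArg _ U₂.ut_σ
  have hηX : tr X U₂.σ η = (Polynomial.X : (U₂.R : Type u)[X]) • tr X (cst U₂.R) η := by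
    apply hi
    rw [map_smul, ap_tr, ap_tr, hη]
    rw [map_sub, map_sub, map_sub, map_sub, ← hnat, ← hnat, ← hnat, ← hnat, ← hnat, ← hnat,
      map_add, map_add, hxσ.1, hxσ.2, ← smul_add, hsmul, hsmul, hsmul, smul_sub, smul_sub]
  have hησ : ut eX.M U₂.σ (apo eX.j U₂.R η) =
      (Polynomial.X : (U₂.R : Type u)[X]) • ut eX.M (cst U₂.R) (apo eX.j U₂.R η) := by
    rw [← apo_tr, ← apo_tr, ← map_smul, hηX]
  obtain ⟨g, hg⟩ := U₂.exists_linear _ hησ
  have hD : ∀ (B : Alg A) (x z : L.obj (pt B)), ∃ m : X.obj (pt B),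
      ap i B m = s B (x + z) - s B x - s B z ∧
      apo eX.j B m = um (pinl P P ≫ g) B (apo e.j B x) + um (pinr P P ≫ g) B (apo e.j B z) := by
    intro B x z
    let w : UV (prodObj P P) B := um (pinl P P) B (apo e.j B x) + um (pinr P P) B (apo e.j B z)
    have hw₁ : um (pfst P P) B w = apo e.j B x := by
      rw [map_add, um_pinl_fst, um_pinr_fst, add_zero]
    have hw₂ : um (psnd P P) B w = apo e.j B z := by
      rw [map_add, um_pinl_snd, um_pinr_snd, zero_add]
    obtain ⟨f, hf⟩ := U₂.surj B w ((um_plift_eq_zero _ _ _ _).2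
      ⟨by rw [um_comp, hw₁, e.mem], by rw [um_comp, hw₂, e.mem]⟩)
    have hfx : tr L f x₁ = x := e.inj B (by
      rw [apo_tr, hx₁, ← um_ut]
      exact (congrArg _ hf).trans hw₁)
    have hfz : tr L f x₂ = z := e.inj B (by
      rw [apo_tr, hx₂, ← um_ut]
      exact (congrArg _ hf).trans hw₂)
    refine ⟨tr X f η, ?_, ?_⟩
    · rw [ap_tr, hη, map_sub, map_sub, ← hnat, ← hnat, ← hnat, map_add, hfx, hfz]
    · rw [apo_tr, um_comp, um_comp, ← map_add (um g B), ← hg, ← um_ut]
      exact congrArg (um g B) hf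
  have hs0 : ∀ B, s B 0 = 0 := fun B => by
    have := hsmul B 0 0
    rwa [zero_smul, zero_smul] at this
  have hadd : ∀ (B : Alg A) (x z : L.obj (pt B)), s B (x + z) = s B x + s B z := by
    intro B x z
    obtain ⟨m₁, h1, h1'⟩ := hD B x 0
    obtain ⟨m₂, h2, h2'⟩ := hD B 0 z
    rw [add_zero, hs0, sub_self, sub_zero] at h1
    rw [zero_add, hs0, sub_zero, sub_self] at h2
    rw [(injective_iff_map_eq_zero _).1 (hi B) m₁ h1, map_zero, map_zero, map_zero, add_zero] at h1'
    rw [(injective_iff_map_eq_zero _).1 (hi B) m₂ h2, map_zero, map_zero, map_zero, zero_add] at h2'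
    obtain ⟨m, h, h'⟩ := hD B x z
    rw [← h1', ← h2', add_zero] at h'
    rw [(injective_iff_map_eq_zero _).1 (eX.inj B) m h', map_zero, eq_comm, sub_sub, sub_eq_zero] at h
    exact h
  exact ⟨mkHom (fun B => { toFun := s B, map_add' := hadd B, map_smul' := hsmul B }) hnat,
    hom_ext' fun B x => hps B x⟩

/-- A split extension of adequate functors is adequate. -/
theorem adequate_of_splitting {S : ShortComplex (MVF A)} (sp : S.Splitting) (e₁ : Emb S.X₁) (e₃ : Emb S.X₃) :
    adequate A S.X₂ := by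
  let jj : S.X₂ ⟶ (underline A).obj (prodObj e₁.M e₃.M) :=
    sp.r ≫ e₁.j ≫ (underline A).map (pinl _ _) + S.g ≫ e₃.j ≫ (underline A).map (pinr _ _)
  have hf : ∀ B x, um (pfst e₁.M e₃.M) B (apo jj B x) = apo e₁.j B (ap sp.r B x) := by
    intro B x
    show um _ B (um (pinl _ _) B (apo e₁.j B (ap sp.r B x)) + um (pinr _ _) B (apo e₃.j B (ap S.g B x))) = _
    rw [map_add, um_pinl_fst, um_pinr_fst, add_zero]
  have hg : ∀ B x, um (psnd e₁.M e₃.M) B (apo jj B x) = apo e₃.j B (ap S.g B x) := by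
    intro B x
    show um _ B (um (pinl _ _) B (apo e₁.j B (ap sp.r B x)) + um (pinr _ _) B (apo e₃.j B (ap S.g B x))) = _
    rw [map_add, um_pinl_snd, um_pinr_snd, zero_add]
  refine adequate_of_emb ⟨_, _, plift (pfst e₁.M e₃.M ≫ e₁.ψ) (psnd e₁.M e₃.M ≫ e₃.ψ), jj,
    fun B x z h => ?_, fun B x => ?_, fun B m h => ?_⟩
  · have hr : ap sp.r B x = ap sp.r B z := e₁.inj B (by rw [← hf, ← hf, h])
    have hq : ap S.g B x = ap S.g B z := e₃.inj B (by rw [← hg, ← hg, h])
    have hid : ∀ w, w = ap S.f B (ap sp.r B w) + ap sp.s B (ap S.g B w) := fun w =>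
      (congrArg (fun (k : S.X₂ ⟶ S.X₂) => ap k B w) sp.id).symm
    rw [hid x, hid z, hr, hq]
  · rw [um_plift_eq_zero, um_comp, um_comp, hf, hg]
    exact ⟨e₁.mem B _, e₃.mem B _⟩
  · rw [um_plift_eq_zero, um_comp, um_comp] at h
    obtain ⟨a, ha⟩ := e₁.exists_of_mem B _ h.1
    obtain ⟨b, hb⟩ := e₃.exists_of_mem B _ h.2
    refine ⟨ap S.f B a + ap sp.s B b, um_prod_ext ?_ ?_⟩
    · rw [hf, map_add, ← ap_comp, ← ap_comp, sp.f_r, sp.s_r]
      exact (congrArg _ (add_zero a)).trans ha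
    · rw [hg, map_add, ← ap_comp, ← ap_comp, S.zero, sp.s_g]
      exact (congrArg _ (zero_add b)).trans hb

/-- The embedding transported along an isomorphism. -/
def embOfIso {F G : MVF A} (e : Emb G) (i : F ≅ G) : Emb F where
  M := e.M
  N := e.N
  ψ := e.ψ
  j := i.hom ≫ e.j
  inj B := (e.inj B).comp ((mono_iff' i.hom).1 inferInstance B)
  mem B x := e.mem B (ap i.hom B x)
  exists_of_mem B m h := by
    obtain ⟨y, hy⟩ := e.exists_of_mem B m h
    obtain ⟨x, rfl⟩ := (epi_iff' i.hom).1 inferInstance B y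
    exact ⟨x, hy⟩

/-- A short exact sequence with underlined kernel and linearly adequate quotient splits. -/
theorem exists_splitting (S : ShortComplex (MVF A)) (hS : S.ShortExact) (M : ModuleCat.{u + 1} A)
    (e : S.X₁ ≅ (underline A).obj M) (hL : linAdequate A S.X₃) : Nonempty S.Splitting := by
  obtain ⟨P, P', φ₀, _, _, _, _, ⟨k⟩⟩ := hL
  haveI := hS.mono_f
  haveI := hS.epi_g
  obtain ⟨s, hs⟩ := @exists_section A _ S.X₂ S.X₃ ((underline A).obj M) (e.inv ≫ S.f) S.g
    (fun B => (mono_iff' (e.inv ≫ S.f)).1 inferInstance B) (fun B => (epi_iff' S.g).1 inferInstance B)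
    (by rw [Category.assoc, S.zero, comp_zero])
    (fun B x hx => by
      obtain ⟨z, rfl⟩ := exists_of_exact S hS.exact B x hx
      exact ⟨ap e.hom B z, congrArg (fun (t : S.X₁ ⟶ S.X₂) => ap t B z) (e.hom_inv_id_assoc S.f)⟩)
    (idEmb M)
    (embOfIso (kerEmb φ₀) k) ‹Module.Finite A P› ‹Module.Free A P› ‹Module.Finite A P'› ‹Module.Free A P'›
  exact ⟨ShortComplex.Splitting.ofExactOfSection S hS.exact s hs hS.mono_f⟩

end

end Groth.L23.Adq
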