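import Groth.Agent.L23.Adeq.Injective
import Groth.Prelude.Def_W4stkadequateTF

/-!
# Tangent functors
-/

universe u

open CategoryTheory Limits Opposite

set_option backward.isDefEq.respectTransparency.types false
set_option linter.style.haveILetI false

namespace Groth.L23.Adq

open _root_.Adeq

noncomputable section

variable {A : Type u} [CommRing A] (B : Alg A)

/-- The right exactness property of tangent functors. -/
def RightExactT (F : MVF A) : Prop :=
  ∀ (B : Alg A) (S : ShortComplex (ModuleCat.{u} B)), S.ShortExact →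
    Function.Surjective (AdeqTF.tangentMap B F S.g) ∧
      (AdeqTF.tangentMap B F S.g).ker = (AdeqTF.tangentMap B F S.f).range

theorem inl_fst_hom (N : ModuleCat.{u} B) : AdeqTF.inl B N ≫ AdeqTF.fst B N = 𝟙 B :=
  CommAlgCat.hom_ext (DFunLike.ext _ _ fun _ => rfl)

theorem map_comp_hom {N N' N'' : ModuleCat.{u} B} (g : N ⟶ N') (h : N' ⟶ N'') :
    AdeqTF.map B (g ≫ h) = AdeqTF.map B g ≫ AdeqTF.map B h :=
  CommAlgCat.hom_ext (DFunLike.ext _ _ fun x =>
    AlgHom.congr_fun (TrivSqZeroExt.map_comp_map g.hom h.hom) x)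

theorem map_id_hom (N : ModuleCat.{u} B) : AdeqTF.map B (𝟙 N) = 𝟙 _ :=
  CommAlgCat.hom_ext (DFunLike.ext _ _ fun x =>
    AlgHom.congr_fun (TrivSqZeroExt.map_id (R' := (B : Type u)) (M := N)) x)

theorem inl_map_hom {N N' : ModuleCat.{u} B} (g : N ⟶ N') : AdeqTF.inl B N ≫ AdeqTF.map B g = AdeqTF.inl B N' :=
  CommAlgCat.hom_ext (DFunLike.ext _ _ fun b => TrivSqZeroExt.map_inl g.hom b)

variable {B} {N N' N'' : ModuleCat.{u} B} {F G : MVF A}

theorem mem_tangent (x : F.obj (pt (AdeqTF.ext B N))) :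
    x ∈ AdeqTF.tangent B N F ↔ tr F (AdeqTF.fst B N) x = 0 := Iff.rfl

theorem coe_tangentMap (g : N ⟶ N') (x : AdeqTF.tangent B N F) :
    (AdeqTF.tangentMap B F g x : F.obj (pt (AdeqTF.ext B N'))) = tr F (AdeqTF.map B g) x.1 := rfl

theorem tangentMap_comp (g : N ⟶ N') (h : N' ⟶ N'') (x : AdeqTF.tangent B N F) :
    AdeqTF.tangentMap B F (g ≫ h) x = AdeqTF.tangentMap B F h (AdeqTF.tangentMap B F g x) := by
  refine Subtype.ext ?_
  rw [coe_tangentMap, coe_tangentMap, coe_tangentMap, map_comp_hom, tr_comp]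

theorem tangentMap_id (x : AdeqTF.tangent B N F) : AdeqTF.tangentMap B F (𝟙 N) x = x := by
  refine Subtype.ext ?_
  rw [coe_tangentMap, map_id_hom, tr_id]

theorem tangentMap_zero (x : AdeqTF.tangent B N F) : AdeqTF.tangentMap B F (0 : N ⟶ N') x = 0 := by
  refine Subtype.ext ?_
  have h : AdeqTF.map B (0 : N ⟶ N') = AdeqTF.fst B N ≫ AdeqTF.inl B N' := by
    refine CommAlgCat.hom_ext (DFunLike.ext _ _ fun x => ?_)
    refine TrivSqZeroExt.ext ?_ ?_
    · exact TrivSqZeroExt.fst_map _ _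
    · exact TrivSqZeroExt.snd_map _ _
  rw [coe_tangentMap, h, tr_comp, (mem_tangent _).1 x.2, map_zero]
  rfl

/-- The map of tangent modules induced by a morphism of functors. -/
def tApp (φ : F ⟶ G) (x : AdeqTF.tangent B N F) : AdeqTF.tangent B N G :=
  ⟨ap φ (AdeqTF.ext B N) x.1, (mem_tangent _).2 (by rw [← ap_tr, (mem_tangent _).1 x.2, map_zero])⟩

theorem tApp_map (φ : F ⟶ G) (g : N ⟶ N') (x : AdeqTF.tangent B N F) :
    tApp φ (AdeqTF.tangentMap B F g x) = AdeqTF.tangentMap B G g (tApp φ x) :=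
  Subtype.ext (ap_tr φ (AdeqTF.map B g) x.1)

theorem tApp_add (φ : F ⟶ G) (x y : AdeqTF.tangent B N F) : tApp φ (x + y) = tApp φ x + tApp φ y :=
  Subtype.ext (map_add _ _ _)

theorem tApp_neg (φ : F ⟶ G) (x : AdeqTF.tangent B N F) : tApp φ (-x) = - tApp φ x :=
  Subtype.ext (map_neg _ _)

theorem tApp_zero (φ : F ⟶ G) : tApp φ (0 : AdeqTF.tangent B N F) = 0 :=
  Subtype.ext (map_zero _)

theorem tApp_injective (φ : F ⟶ G) [Mono φ] : Function.Injective (tApp (B := B) (N := N) φ) := fun x y h =>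
  Subtype.ext ((mono_iff' φ).1 inferInstance _ (congrArg Subtype.val h))

theorem exists_tangent_lift (φ : F ⟶ G) (hφ : ∀ C, Function.Surjective (ap φ C)) (y : AdeqTF.tangent B N G) :
    ∃ x : AdeqTF.tangent B N F, tApp φ x = y := by
  obtain ⟨x, hx⟩ := hφ _ y.1
  refine ⟨⟨x - tr F (AdeqTF.inl B N) (tr F (AdeqTF.fst B N) x), (mem_tangent _).2 ?_⟩, Subtype.ext ?_⟩
  · rw [map_sub, ← tr_comp F (AdeqTF.inl B N), inl_fst_hom, tr_id, sub_self]
  · show ap φ (AdeqTF.ext B N) (x - _) = _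
    rw [map_sub, ap_tr, ap_tr, hx, (mem_tangent _).1 y.2, map_zero, sub_zero]

theorem tangent_exact {C : ShortComplex (MVF A)} (hC : C.ShortExact) (y : AdeqTF.tangent B N C.X₂)
    (hy : tApp C.g y = 0) : ∃ x : AdeqTF.tangent B N C.X₁, tApp C.f x = y := by
  haveI := hC.mono_f
  obtain ⟨x, hx⟩ := exists_of_exact C hC.exact _ y.1 (congrArg Subtype.val hy)
  refine ⟨⟨x, (mem_tangent _).2 ((mono_iff' C.f).1 inferInstance B ?_)⟩, Subtype.ext hx⟩
  rw [ap_tr, hx, (mem_tangent _).1 y.2, map_zero]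

theorem tApp_comp_zero (C : ShortComplex (MVF A)) (x : AdeqTF.tangent B N C.X₁) :
    tApp C.g (tApp C.f x) = 0 :=
  Subtype.ext (congrArg (fun (k : C.X₁ ⟶ C.X₃) => ap k (AdeqTF.ext B N) x.1) C.zero)

theorem range_le_ker {S : ShortComplex (ModuleCat.{u} B)} :
    (AdeqTF.tangentMap B F S.f).range ≤ (AdeqTF.tangentMap B F S.g).ker := by
  rintro _ ⟨x, rfl⟩
  rw [AddMonoidHom.mem_ker, ← tangentMap_comp, S.zero, tangentMap_zero]

theorem rightExact_left {C : ShortComplex (MVF A)} (hC : C.ShortExact) (h₁ : RightExactT C.X₁)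
    (h₂ : RightExactT C.X₂) : RightExactT C.X₃ := by
  intro B S hS
  haveI := hC.epi_g
  have hg : ∀ D, Function.Surjective (ap C.g D) := (epi_iff' C.g).1 inferInstance
  refine ⟨fun x => ?_, le_antisymm (fun x hx => ?_) range_le_ker⟩
  · obtain ⟨y, rfl⟩ := exists_tangent_lift C.g hg x
    obtain ⟨z, rfl⟩ := (h₂ B S hS).1 y
    exact ⟨tApp C.g z, (tApp_map _ _ _).symm⟩
  · obtain ⟨y, rfl⟩ := exists_tangent_lift C.g hg x
    obtain ⟨w, hw⟩ := tangent_exact hC (AdeqTF.tangentMap B C.X₂ S.g y) ((tApp_map _ _ _).trans hx)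
    obtain ⟨z, rfl⟩ := (h₁ B S hS).1 w
    have hk : y + - tApp C.f z ∈ (AdeqTF.tangentMap B C.X₂ S.g).ker := by
      rw [AddMonoidHom.mem_ker, map_add, map_neg, ← tApp_map, hw, add_neg_cancel]
    rw [(h₂ B S hS).2] at hk
    obtain ⟨v, hv⟩ := hk
    refine ⟨tApp C.g v, ?_⟩
    rw [← tApp_map, hv, tApp_add, tApp_neg, tApp_comp_zero, neg_zero, add_zero]

theorem rightExact_mid {C : ShortComplex (MVF A)} (hC : C.ShortExact) (h₁ : RightExactT C.X₁)
    (h₃ : RightExactT C.X₃) : RightExactT C.X₂ := by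
  intro B S hS
  haveI := hC.epi_g
  haveI := hC.mono_f
  have hg : ∀ D, Function.Surjective (ap C.g D) := (epi_iff' C.g).1 inferInstance
  refine ⟨fun y => ?_, le_antisymm (fun y hy => ?_) range_le_ker⟩
  · obtain ⟨z, hz⟩ := (h₃ B S hS).1 (tApp C.g y)
    obtain ⟨w, rfl⟩ := exists_tangent_lift C.g hg z
    obtain ⟨x, hx⟩ := tangent_exact hC (y + - AdeqTF.tangentMap B C.X₂ S.g w)
      (by rw [tApp_add, tApp_neg, tApp_map, hz, add_neg_cancel])
    obtain ⟨v, rfl⟩ := (h₁ B S hS).1 x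
    refine ⟨w + tApp C.f v, ?_⟩
    rw [map_add, ← tApp_map, hx]
    abel
  · have h : tApp C.g y ∈ (AdeqTF.tangentMap B C.X₃ S.g).ker := by
      rw [AddMonoidHom.mem_ker, ← tApp_map, AddMonoidHom.mem_ker.1 hy, tApp_zero]
    rw [(h₃ B S hS).2] at h
    obtain ⟨z, hz⟩ := h
    obtain ⟨w, rfl⟩ := exists_tangent_lift C.g hg z
    obtain ⟨x, hx⟩ := tangent_exact hC (y + - AdeqTF.tangentMap B C.X₂ S.f w)
      (by rw [tApp_add, tApp_neg, tApp_map, hz, add_neg_cancel])
    have hxk : x ∈ (AdeqTF.tangentMap B C.X₁ S.g).ker := by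
      refine tApp_injective C.f ?_
      rw [tApp_map, hx, map_add, map_neg, AddMonoidHom.mem_ker.1 hy, ← tangentMap_comp, S.zero, tangentMap_zero,
        tApp_zero, neg_zero, add_zero]
    rw [(h₁ B S hS).2] at hxk
    obtain ⟨v, rfl⟩ := hxk
    refine ⟨w + tApp C.f v, ?_⟩
    rw [map_add, ← tApp_map, hx]
    abel

theorem coprod_bijective {F : MVF A} (hF : RightExactT F) (B : Alg A) (N₁ N₂ : ModuleCat.{u} B) :
    Function.Bijective ((AdeqTF.tangentMap B F (biprod.inl : N₁ ⟶ N₁ ⊞ N₂)).coprod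
      (AdeqTF.tangentMap B F (biprod.inr : N₂ ⟶ N₁ ⊞ N₂))) := by
  let sp : (ShortComplex.mk (biprod.inl : N₁ ⟶ N₁ ⊞ N₂) biprod.snd biprod.inl_snd).Splitting :=
    { r := biprod.fst, s := biprod.inr }
  have hex := (hF B _ sp.shortExact).2
  refine ⟨(injective_iff_map_eq_zero _).2 fun x hx => ?_, fun y => ?_⟩
  · obtain ⟨a, b⟩ := x
    rw [AddMonoidHom.coprod_apply] at hx
    have h1 := congrArg (AdeqTF.tangentMap B F (biprod.fst : N₁ ⊞ N₂ ⟶ N₁)) hx
    have h2 := congrArg (AdeqTF.tangentMap B F (biprod.snd : N₁ ⊞ N₂ ⟶ N₂)) hx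
    rw [map_add, ← tangentMap_comp, ← tangentMap_comp, biprod.inl_fst, biprod.inr_fst, tangentMap_id,
      tangentMap_zero, add_zero, map_zero] at h1
    rw [map_add, ← tangentMap_comp, ← tangentMap_comp, biprod.inl_snd, biprod.inr_snd, tangentMap_id,
      tangentMap_zero, zero_add, map_zero] at h2
    exact Prod.ext h1 h2
  · have hy : y + - AdeqTF.tangentMap B F biprod.inr (AdeqTF.tangentMap B F biprod.snd y) ∈
        (AdeqTF.tangentMap B F (biprod.snd : N₁ ⊞ N₂ ⟶ N₂)).ker := by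
      rw [AddMonoidHom.mem_ker, map_add, map_neg, ← tangentMap_comp biprod.inr, biprod.inr_snd, tangentMap_id,
        add_neg_cancel]
    rw [hex] at hy
    obtain ⟨a, ha⟩ := hy
    refine ⟨(a, AdeqTF.tangentMap B F biprod.snd y), ?_⟩
    rw [AddMonoidHom.coprod_apply, ha]
    abel

theorem tr_surjective_of_injective (I : MVF A) [Injective I] {C C' : Alg A} (p : C ⟶ C')
    (hp : Function.Surjective p.hom) : Function.Surjective (tr I p) := by
  classical
  let P : ∀ B : Alg A, InjectivePresentation (I.obj (pt B)) := fun B =>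
    (EnoughInjectives.presentation (C := ModuleCat.{u + 1} B) (I.obj (pt B))).some
  let i : I ⟶ coind fun B => (P B).J := coindLift (fun B => (P B).J) fun B => (P B).f.hom
  haveI : Mono i := (mono_iff' _).2 fun C x y h => by
    have h' := congrFun (congrFun h C) (𝟙 C)
    refine (ModuleCat.mono_iff_injective (P C).f).1 (P C).mono ?_
    exact ((congrArg (P C).f.hom (tr_id I C x)).symm.trans h').trans (congrArg (P C).f.hom (tr_id I C y))
  obtain ⟨r, hr⟩ := Injective.factors (𝟙 I) i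
  intro y
  let w : CoindV (fun B => (P B).J) C' := ap i C' y
  let v : CoindV (fun B => (P B).J) C := fun B g =>
    if h : ∃ g' : C' ⟶ B, p ≫ g' = g then w B h.choose else 0
  have hv : tr (coind fun B => (P B).J) p v = ap i C' y := by
    refine funext fun B => funext fun g => ?_
    have h : ∃ g' : C' ⟶ B, p ≫ g' = p ≫ g := ⟨g, rfl⟩
    show v B (p ≫ g) = w B g
    simp only [v, dif_pos h]
    refine congrArg (w B) (CommAlgCat.hom_ext (DFunLike.ext _ _ fun c => ?_))
    obtain ⟨c, rfl⟩ := hp c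
    exact AlgHom.congr_fun (congrArg CommAlgCat.Hom.hom h.choose_spec) c
  refine ⟨ap r C v, ?_⟩
  refine (ap_tr r p v).symm.trans ((congrArg (ap r C') hv).trans ?_)
  exact congrArg (fun (k : I ⟶ I) => ap k C' y) hr

theorem tangentMap_surjective_of_injective (I : MVF A) [Injective I] (B : Alg A)
    (S : ShortComplex (ModuleCat.{u} B)) (hS : S.ShortExact) :
    Function.Surjective (AdeqTF.tangentMap B I S.g) := by
  haveI := hS.epi_g
  have hg : Function.Surjective S.g := (ModuleCat.epi_iff_surjective _).1 inferInstance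
  have hp : Function.Surjective (AdeqTF.map B S.g).hom := fun z => by
    obtain ⟨n, hn⟩ := hg (TrivSqZeroExt.snd z)
    refine ⟨TrivSqZeroExt.inl (TrivSqZeroExt.fst z) + TrivSqZeroExt.inr n, ?_⟩
    show TrivSqZeroExt.map S.g.hom _ = z
    rw [map_add, TrivSqZeroExt.map_inl, TrivSqZeroExt.map_inr]
    exact (congrArg (fun m => TrivSqZeroExt.inl (TrivSqZeroExt.fst z) + TrivSqZeroExt.inr m) hn).trans
      (TrivSqZeroExt.inl_fst_add_inr_snd_eq z)
  intro x
  obtain ⟨y, hy⟩ := tr_surjective_of_injective I (AdeqTF.map B S.g) hp x.1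
  refine ⟨⟨y - tr I (AdeqTF.inl B S.X₂) (tr I (AdeqTF.fst B S.X₂) y), (mem_tangent _).2 ?_⟩, Subtype.ext ?_⟩
  · rw [map_sub, ← tr_comp I (AdeqTF.inl B S.X₂), inl_fst_hom, tr_id, sub_self]
  · rw [coe_tangentMap, map_sub, hy, ← tr_comp, ← tr_comp, inl_map_hom, ← AdeqTF.map_fst B S.g, tr_comp, tr_comp,
      hy, (mem_tangent _).1 x.2, map_zero, sub_zero]

end

end Groth.L23.Adq
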